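import Cfsg.Agent.Lib.ProductFusion.Frame
import Cfsg.Agent.S1250

/-!
Goldschmidt's product theorem: the normal closures of two commuting strongly closed subgroups of a
Sylow 2-subgroup meeting trivially commute modulo `O(G)`.
-/

set_option autoImplicit false
set_option linter.style.haveILetI false
set_option linter.unusedSectionVars false

namespace CfsgLib.ProductFusion

open Subgroup CfsgLib.Components
open scoped commutatorElement

universe u

local instance : Fact (Nat.Prime 2) := ⟨Nat.prime_two⟩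

variable {G : Type u} [Group G] [Finite G]

theorem le_normalizer_coreJoin (A : Subgroup G) :
    centralizer (A : Set G) ≤ normalizer (coreJoin A : Set G) := by
  refine le_normalizer_iff.2 fun g hg x hx => ?_
  have key : (coreJoin A).map (MulAut.conj g).toMonoidHom ≤ coreJoin A := by
    rw [coreJoin, Subgroup.map_iSup]
    refine iSup_mono fun a => ?_
    rintro _ ⟨y, hy, rfl⟩
    have hga : g ∈ centralizer ({(a : G)} : Set G) :=
      centralizer_le (Set.singleton_subset_iff.2 a.2.1) hg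
    exact (mem_normalizer_iff.1 (normalizer_le_normalizer_coreIn _ (le_normalizer hga)) y).1 hy
  exact key ⟨x, hx, rfl⟩

/-- A minimal counterexample does not exist. -/
theorem false_of_minimal (D : Pair G) (ih : Below G) (hO : Cfsg.pPrimeCore 2 G = ⊥)
    (hne : ¬ Commutes D) : False := by
  obtain ⟨a₀, ha₀, b₀, hb₀, ha₀2, hb₀2, hnc⟩ := exists_not_commute D ih hO hne
  obtain ⟨y₀, r₀, hy₀, hy₀2, hp₀⟩ := D.exists_proj ha₀ ha₀2 hb₀ hb₀2
  -- the first frame
  have hord : ∀ z : G, orderOf z = 2 → IsPGroup 2 (zpowers z) := fun z hz =>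
    IsPGroup.of_card (n := 1) (by rw [Nat.card_zpowers, hz, pow_one])
  have hX : IsPGroup 2 (zpowers a₀ ⊔ zpowers y₀ : Subgroup G) := by
    refine (hord a₀ ha₀2).to_sup_of_normal_left' (hord y₀ hy₀2)
      (zpowers_le.2 (centralizer_le_normalizer _ (mem_centralizer_iff.2 fun w hw => ?_)))
    obtain ⟨i, rfl⟩ := mem_zpowers_iff.1 hw
    exact (hp₀.comm.zpow_left i).eq
  obtain ⟨A₁, hA₁, ha₀A, hA₁c⟩ := exists_four D ih hO hne hX ha₀ ha₀2 (mem_sup_left (mem_zpowers a₀))
  -- fours of the second family commuting with `A₁`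
  have hframe : ∀ y : G, y ∈ conjs D.S₂ → orderOf y = 2 → (∀ a ∈ A₁, a * y = y * a) →
      ∃ A₂ : Subgroup G, Frame D A₁ A₂ ∧ y ∈ A₂ := by
    intro y hy hy2 hc
    have hXy : IsPGroup 2 (A₁ ⊔ zpowers y : Subgroup G) :=
      (isPGroup_four hA₁).to_sup_of_normal_left' (hord y hy2)
        (zpowers_le.2 (centralizer_le_normalizer _ (mem_centralizer_iff.2 hc)))
    obtain ⟨A₂, hA₂, hyA, hA₂c⟩ := exists_four D.swap ih hO (not_commutes_swap hne) hXy hy hy2
      (mem_sup_right (mem_zpowers y))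
    exact ⟨A₂, ⟨hA₁, hA₂, fun a ha b hb => (hA₂c a (mem_sup_left ha) (hA₁.sub a ha) b hb).symm⟩, hyA⟩
  have hone : ∀ z : G, orderOf z = 2 → z ≠ 1 := fun z hz => CfsgLib.Involutions.ne_one_of_involution hz
  obtain ⟨A₂, hF, hy₀A⟩ := hframe y₀ hy₀ hy₀2 fun a ha =>
    hA₁c y₀ (mem_sup_right (mem_zpowers y₀)) hy₀ a ha
  have hr₀ : r₀ ∈ W A₁ A₂ := mem_W_of_proj hF ih hO hne ha₀A (hone a₀ ha₀2) hy₀A (hone y₀ hy₀2) hp₀
  have hWne : W A₁ A₂ ≠ ⊥ := by
    intro h
    rw [h, mem_bot] at hr₀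
    refine hnc ?_
    have := hp₀.eq
    rw [hr₀, one_mul, inv_one, mul_one] at this
    exact this ▸ hp₀.comm
  -- every involution of the second family normalises the join of cores
  obtain ⟨s, t, hs, ht, hs1, ht1, -, hgen⟩ := exists_gens hA₁
  have hinv : ∀ y : G, y ∈ conjs D.S₂ → orderOf y = 2 → y ∈ normalizer (coreJoin A₁ : Set G) := by
    intro y hy hy2
    have hs2 := orderOf_four hA₁ hs hs1
    have ht2 := orderOf_four hA₁ ht ht1
    obtain ⟨y₁, r₁, hy₁, hy₁2, hp₁⟩ := D.exists_proj (hA₁.sub s hs) hs2 hy hy2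
    obtain ⟨y₂, r₂, hy₂, hy₂2, hp₂⟩ := D.exists_proj (hA₁.sub t ht) ht2 hy₁ hy₁2
    have hst : Commute s t :=
      congrArg Subtype.val (hA₁.elem.1.is_comm.comm ⟨s, hs⟩ ⟨t, ht⟩)
    have hsr₂ : r₂ ∈ centralizer ({s} : Set G) := hp₂.mem_of_mem
      (mem_centralizer_singleton_iff.2 hst.symm.eq) (mem_centralizer_singleton_iff.2 hp₁.comm.symm.eq)
    have hsy₂ : Commute s y₂ := by
      have e : y₂ = r₂⁻¹ * y₁ * r₂ := by rw [← hp₂.eq]; group
      have hc : Commute s r₂ := (mem_centralizer_singleton_iff.1 hsr₂).symm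
      rw [e]
      exact (hc.inv_right.mul_right hp₁.comm).mul_right hc
    have hAy₂ : ∀ a ∈ A₁, a * y₂ = y₂ * a := by
      intro a ha
      have hle : A₁ ≤ centralizer ({y₂} : Set G) := by
        rw [hgen, sup_le_iff, zpowers_le, zpowers_le, mem_centralizer_singleton_iff,
          mem_centralizer_singleton_iff]
        exact ⟨hsy₂.eq, hp₂.comm.eq⟩
      exact mem_centralizer_singleton_iff.1 (hle ha)
    obtain ⟨B₂, hF', hy₂B⟩ := hframe y₂ hy₂ hy₂2 hAy₂
    have hW' := W_le_coreJoin hF' ih hO hne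
    have hr₂ : r₂ ∈ coreJoin A₁ :=
      hW' (mem_W_of_proj hF' ih hO hne ht ht1 hy₂B (hone y₂ hy₂2) hp₂)
    have hp : Proj s (r₂⁻¹ * y * r₂) y₂ (r₂⁻¹ * r₁ * r₂) := by
      have h := hp₁.conj r₂⁻¹
      have e1 : r₂⁻¹ * s * r₂⁻¹⁻¹ = s := by
        rw [inv_inv, mul_assoc, ← mem_centralizer_singleton_iff.1 hsr₂, inv_mul_cancel_left]
      have e2 : r₂⁻¹ * y₁ * r₂⁻¹⁻¹ = y₂ := by rw [← hp₂.eq]; group
      rw [e1, e2, inv_inv] at h
      exact h
    have hr : r₂⁻¹ * r₁ * r₂ ∈ coreJoin A₁ :=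
      hW' (mem_W_of_proj hF' ih hO hne hs hs1 hy₂B (hone y₂ hy₂2) hp)
    have hy₂n : y₂ ∈ normalizer (coreJoin A₁ : Set G) :=
      le_normalizer_coreJoin A₁ (mem_centralizer_iff.2 hAy₂)
    have hr₁ : r₁ ∈ coreJoin A₁ := by
      have := mul_mem (mul_mem hr₂ hr) (inv_mem hr₂)
      rwa [show r₂ * (r₂⁻¹ * r₁ * r₂) * r₂⁻¹ = r₁ by group] at this
    have hr₂n := le_normalizer hr₂
    have hr₁n := le_normalizer hr₁
    rw [← hp₁.eq, ← hp₂.eq]
    exact mul_mem (mul_mem hr₁n (mul_mem (mul_mem hr₂n hy₂n) (inv_mem hr₂n))) (inv_mem hr₁n)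
  -- the contradiction
  set B := invClosure D.S₂ with hB
  have hBn : B ≤ normalizer (coreJoin A₁ : Set G) :=
    (closure_le _).2 fun y hy => hinv y hy.1 hy.2
  have hBP := invClosure_sup_eq_top D ih hO hne
  have hodd := (completion hF ih hO hne).1
  have hWB : W A₁ A₂ ≤ B := by
    obtain ⟨n, hn⟩ := IsPGroup.iff_card.1 D.P.isPGroup'
    have hidx : B.index ∣ 2 ^ n := by
      have h := relIndex_sup_right (H := (D.P : Subgroup G)) (K := B)
      rw [sup_comm, hBP, relIndex_top_right] at h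
      rw [h, ← hn]
      exact relIndex_dvd_card _ _
    intro x hx
    have hx2 : x ^ 2 ^ n ∈ B := by
      obtain ⟨c, hc⟩ := hidx
      rw [hc, pow_mul]
      exact pow_mem (pow_index_mem _ x) c
    have hox : ¬ 2 ∣ orderOf x := fun h => hodd (h.trans (orderOf_dvd_natCard _ hx))
    obtain ⟨k, hk⟩ := exists_pow_eq_self_of_coprime
      (Nat.Coprime.pow_left n (Nat.prime_two.coprime_iff_not_dvd.2 hox))
    rw [← hk]
    exact pow_mem hx2 k
  refine hWne (eq_bot_of_odd hO (N := B) (J := coreJoin A₁ ⊓ B) inf_le_right ?_ ?_ ?_ hodd)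
  · exact (le_inf hBn le_normalizer).trans inf_normalizer_le_normalizer_inf
  · exact le_inf (W_le_coreJoin hF ih hO hne) hWB
  · exact inf_le_left.trans (coreJoin_le_normalizer hF ih hO hne)

/-- The images in a quotient by a normal subgroup, provided they still meet trivially. -/
def Pair.map (D : Pair G) (N : Subgroup G) [N.Normal]
    (hdisj : D.S₁.map (QuotientGroup.mk' N) ⊓ D.S₂.map (QuotientGroup.mk' N) = ⊥)
    (hsc : ∀ S : Subgroup G, Cfsg.IsStronglyClosed S (D.P : Subgroup G) →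
      Cfsg.IsStronglyClosed (S.map (QuotientGroup.mk' N))
        ((D.P.mapSurjective (QuotientGroup.mk'_surjective N) : Sylow 2 (G ⧸ N)) : Subgroup (G ⧸ N))) :
    Pair (G ⧸ N) where
  P := D.P.mapSurjective (QuotientGroup.mk'_surjective N)
  S₁ := D.S₁.map (QuotientGroup.mk' N)
  S₂ := D.S₂.map (QuotientGroup.mk' N)
  comm := by
    rintro _ ⟨a, ha, rfl⟩ _ ⟨b, hb, rfl⟩
    rw [← map_mul, ← map_mul, D.comm a ha b hb]
  disj := hdisj
  sc₁ := hsc _ D.sc₁
  sc₂ := hsc _ D.sc₂

theorem commutes_all : ∀ (n : ℕ) (G : Type u) [Group G] [Finite G],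
    Nat.card G = n → ∀ D : Pair G, Commutes D := by
  intro n
  induction n using Nat.strong_induction_on with
  | _ n ih =>
    intro G _ _ hn D
    have hbelow : Below G := fun H _ _ hlt E => ih (Nat.card H) (hn ▸ hlt) H rfl E
    by_contra hne
    by_cases hO : Cfsg.pPrimeCore 2 G = ⊥
    · exact false_of_minimal D hbelow hO hne
    set O := Cfsg.pPrimeCore 2 G with hOdef
    set π := QuotientGroup.mk' O
    have hOodd : ¬ 2 ∣ Nat.card O :=
      Nat.prime_two.coprime_iff_not_dvd.1 (CfsgLib.PCore.pPrimeCore_coprime (p := 2)).symm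
    have hPO : (D.P : Subgroup G) ⊓ O = ⊥ := by
      obtain ⟨k, hk⟩ := IsPGroup.iff_card.1 D.P.isPGroup'
      refine inf_eq_bot_of_coprime ?_
      rw [hk]
      exact Nat.Coprime.pow_left k (Nat.prime_two.coprime_iff_not_dvd.2 hOodd)
    have hdisj : D.S₁.map π ⊓ D.S₂.map π = ⊥ := by
      refine eq_bot_iff.2 ?_
      rintro q ⟨⟨a, ha, rfl⟩, b, hb, hab⟩
      obtain ⟨c, hc, hc'⟩ := (QuotientGroup.mk'_eq_mk' O).1 hab
      have h1 : c ∈ (D.P : Subgroup G) ⊓ O := by
        refine ⟨?_, hc⟩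
        have := (D.P : Subgroup G).mul_mem ((D.P : Subgroup G).inv_mem (D.sc₂.1 hb)) (D.sc₁.1 ha)
        rwa [← hc', inv_mul_cancel_left] at this
      rw [hPO, mem_bot] at h1
      rw [h1, mul_one] at hc'
      have h2 : a ∈ D.S₁ ⊓ D.S₂ := ⟨ha, hc' ▸ hb⟩
      rw [D.disj, mem_bot] at h2
      rw [mem_bot, h2, map_one]
    have hlt : Nat.card (G ⧸ O) < Nat.card G := by
      have h := Subgroup.card_eq_card_quotient_mul_card_subgroup O
      have hO1 : 2 ≤ Nat.card O := by
        rcases Nat.lt_or_ge (Nat.card O) 2 with h2 | h2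
        · exact absurd (eq_bot_of_card_le O (by omega)) hO
        · exact h2
      have := (Nat.card_pos : 0 < Nat.card (G ⧸ O))
      have := Nat.mul_le_mul_left (Nat.card (G ⧸ O)) hO1
      omega
    have hmain := hbelow _ hlt (D.map O hdisj fun S hS => by
      have h := Cfsg.Agent.S1250.result D.P S hS O
      rw [Sylow.coe_mapSurjective]
      exact h)
    refine hne ?_
    intro x hx
    have hx' := mem_map_of_mem π hx
    rw [map_commutator, Subgroup.map_normalClosure _ π (QuotientGroup.mk'_surjective O),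
      Subgroup.map_normalClosure _ π (QuotientGroup.mk'_surjective O)] at hx'
    have := hmain hx'
    rw [CfsgLib.PCore.pPrimeCore_quotient_pPrimeCore, mem_bot] at this
    exact (QuotientGroup.eq_one_iff x).1 this

theorem commutator_le_pPrimeCore (D : Pair G) :
    ⁅normalClosure (D.S₁ : Set G), normalClosure (D.S₂ : Set G)⁆ ≤ Cfsg.pPrimeCore 2 G :=
  commutes_all (Nat.card G) G rfl D

end CfsgLib.ProductFusion
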