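import Cfsg.Agent.Lib.Components.Balance
import Cfsg.Agent.Lib.Coprime.Commutator
import Cfsg.Prelude.Def_TwoFusion

/-!
Two commuting strongly closed subgroups of a Sylow 2-subgroup with trivial intersection: the
elements conjugate into them, inside subgroups.
-/

set_option autoImplicit false
set_option linter.style.haveILetI false
set_option linter.unusedSectionVars false

namespace CfsgLib.ProductFusion

open Subgroup CfsgLib.Components
open scoped commutatorElement

universe u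

local instance : Fact (Nat.Prime 2) := ⟨Nat.prime_two⟩

variable {G : Type u} [Group G]

/-- Two commuting strongly closed subgroups with trivial intersection. -/
structure Pair (G : Type u) [Group G] where
  P : Sylow 2 G
  S₁ : Subgroup G
  S₂ : Subgroup G
  comm : ∀ a ∈ S₁, ∀ b ∈ S₂, a * b = b * a
  disj : S₁ ⊓ S₂ = ⊥
  sc₁ : Cfsg.IsStronglyClosed S₁ (P : Subgroup G)
  sc₂ : Cfsg.IsStronglyClosed S₂ (P : Subgroup G)

/-- The elements conjugate into `S`. -/
def conjs (S : Subgroup G) : Set G := {x | ∃ g : G, g * x * g⁻¹ ∈ S}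

/-- Exchange the two subgroups. -/
def Pair.swap (D : Pair G) : Pair G :=
  ⟨D.P, D.S₂, D.S₁, fun a ha b hb => (D.comm b hb a ha).symm, by rw [inf_comm]; exact D.disj,
    D.sc₂, D.sc₁⟩

/-- The conclusion: the normal closures commute modulo the core. -/
def Commutes (D : Pair G) : Prop :=
  ⁅normalClosure (D.S₁ : Set G), normalClosure (D.S₂ : Set G)⁆ ≤ Cfsg.pPrimeCore 2 G

/-- The conclusion for all smaller groups. -/
def Below (G : Type u) [Group G] : Prop :=
  ∀ (H : Type u) [Group H] [Finite H], Nat.card H < Nat.card G → ∀ E : Pair H, Commutes E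

theorem mem_conjs_of_mem {S : Subgroup G} {x : G} (h : x ∈ S) : x ∈ conjs S :=
  ⟨1, by simpa using h⟩

theorem conj_mem_conjs {S : Subgroup G} {x : G} (h : x ∈ conjs S) (g : G) :
    g * x * g⁻¹ ∈ conjs S := by
  obtain ⟨k, hk⟩ := h
  exact ⟨k * g⁻¹, by
    rwa [show k * g⁻¹ * (g * x * g⁻¹) * (k * g⁻¹)⁻¹ = k * x * k⁻¹ by group]⟩

theorem inv_mem_conjs {S : Subgroup G} {x : G} (h : x ∈ conjs S) : x⁻¹ ∈ conjs S := by
  obtain ⟨k, hk⟩ := h
  exact ⟨k, by rw [show k * x⁻¹ * k⁻¹ = (k * x * k⁻¹)⁻¹ by group]; exact S.inv_mem hk⟩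

theorem normalClosure_eq (S : Subgroup G) :
    normalClosure (S : Set G) = closure (conjs S) := by
  refine le_antisymm ?_ ?_
  · haveI : (closure (conjs S)).Normal := by
      refine ⟨fun x hx g => ?_⟩
      induction hx using closure_induction with
      | mem y hy => exact subset_closure (conj_mem_conjs hy g)
      | one => simp
      | mul y z _ _ ihy ihz =>
        have := mul_mem ihy ihz
        rwa [show g * y * g⁻¹ * (g * z * g⁻¹) = g * (y * z) * g⁻¹ by group] at this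
      | inv y _ ihy =>
        have := inv_mem ihy
        rwa [show (g * y * g⁻¹)⁻¹ = g * y⁻¹ * g⁻¹ by group] at this
    exact normalClosure_le_normal fun x hx => subset_closure (mem_conjs_of_mem hx)
  · rw [closure_le]
    rintro x ⟨g, hg⟩
    have h := (normalClosure_normal (s := (S : Set G))).conj_mem _ (subset_normalClosure hg) g⁻¹
    rwa [show g⁻¹ * (g * x * g⁻¹) * g⁻¹⁻¹ = x by group] at h

theorem Pair.conjs_mem₁ (D : Pair G) {x : G} (hx : x ∈ conjs D.S₁) (hP : x ∈ (D.P : Subgroup G)) :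
    x ∈ D.S₁ := by
  obtain ⟨g, hg⟩ := hx
  have h := D.sc₁.2 _ hg g⁻¹
  rw [show g⁻¹ * (g * x * g⁻¹) * g⁻¹⁻¹ = x by group] at h
  exact h hP

theorem Pair.conjs_mem₂ (D : Pair G) {x : G} (hx : x ∈ conjs D.S₂) (hP : x ∈ (D.P : Subgroup G)) :
    x ∈ D.S₂ :=
  D.swap.conjs_mem₁ hx hP

/-- Every element conjugate into `S₁` is a 2-element. -/
theorem Pair.exists_pow₁ (D : Pair G) {x : G} (hx : x ∈ conjs D.S₁) : ∃ k : ℕ, orderOf x = 2 ^ k := by
  obtain ⟨g, hg⟩ := hx
  obtain ⟨k, hk⟩ := IsPGroup.iff_orderOf.1 D.P.isPGroup' ⟨_, D.sc₁.1 hg⟩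
  refine ⟨k, ?_⟩
  rw [orderOf_mk] at hk
  rw [← hk, ← MulAut.conj_apply g x, MulEquiv.orderOf_eq]

variable [Finite G]

theorem exists_conj_le_sylow (P : Sylow 2 G) {X : Subgroup G} (hX : IsPGroup 2 X) :
    ∃ h : G, ∀ y ∈ X, h * y * h⁻¹ ∈ (P : Subgroup G) := by
  obtain ⟨Q, hQ⟩ := hX.exists_le_sylow
  obtain ⟨g, rfl⟩ := MulAction.exists_smul_eq G P Q
  refine ⟨g⁻¹, fun y hy => ?_⟩
  have h := hQ hy
  rw [Sylow.coe_subgroup_smul, Subgroup.mem_pointwise_smul_iff_inv_smul_mem, ← map_inv] at h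
  simpa using h

/-- Elements of the two families in a common 2-subgroup commute. -/
theorem Pair.commute_of_mem (D : Pair G) {x y : G} (hx : x ∈ conjs D.S₁) (hy : y ∈ conjs D.S₂)
    {X : Subgroup G} (hX : IsPGroup 2 X) (hxX : x ∈ X) (hyX : y ∈ X) : Commute x y := by
  obtain ⟨h, hh⟩ := exists_conj_le_sylow D.P hX
  have h1 := D.conjs_mem₁ (conj_mem_conjs hx h) (hh x hxX)
  have h2 := D.conjs_mem₂ (conj_mem_conjs hy h) (hh y hyX)
  have e : Commute (MulAut.conj h x) (MulAut.conj h y) := D.comm _ h1 _ h2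
  simpa [mul_assoc] using e.map (MulAut.conj h⁻¹).toMonoidHom

/-- The two families meet trivially. -/
theorem Pair.eq_one_of_mem (D : Pair G) {x : G} (h1 : x ∈ conjs D.S₁) (h2 : x ∈ conjs D.S₂) :
    x = 1 := by
  obtain ⟨g, hg⟩ := h1
  have h2' := D.conjs_mem₂ (conj_mem_conjs h2 g) (D.sc₁.1 hg)
  have h : g * x * g⁻¹ ∈ D.S₁ ⊓ D.S₂ := ⟨hg, h2'⟩
  rw [D.disj, mem_bot] at h
  simpa using h

/-- `⟨(conjugates of S) ∩ H⟩`, inside `G`. -/
def localClosure (S H : Subgroup G) : Subgroup G := closure (conjs S ∩ H)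

theorem localClosure_le (S H : Subgroup G) : localClosure S H ≤ H :=
  (closure_le H).2 Set.inter_subset_right

theorem le_normalizer_localClosure (S H : Subgroup G) :
    H ≤ normalizer (localClosure S H : Set G) := by
  rw [localClosure, le_normalizer_closure_iff]
  rintro h hh x ⟨hxc, hxH⟩
  exact subset_closure ⟨conj_mem_conjs hxc h, H.mul_mem (H.mul_mem hh hxH) (H.inv_mem hh)⟩

theorem mem_localClosure {S H : Subgroup G} {x : G} (hx : x ∈ conjs S) (hH : x ∈ H) :
    x ∈ localClosure S H := subset_closure ⟨hx, hH⟩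

/-- `O(H)`, inside `G`. -/
def coreIn (H : Subgroup G) : Subgroup G := (Cfsg.pPrimeCore 2 ↥H).map H.subtype

theorem coreIn_centralizer (e : G) :
    coreIn (centralizer ({e} : Set G)) = Cfsg.centralizerPPrimeCore 2 e := rfl

theorem coreIn_le (H : Subgroup G) : coreIn H ≤ H := map_subtype_le _

theorem not_two_dvd_coreIn (H : Subgroup G) : ¬ 2 ∣ Nat.card (coreIn H) := by
  rw [coreIn, Nat.card_congr (equivMapOfInjective _ _ H.subtype_injective).symm.toEquiv]
  exact Nat.prime_two.coprime_iff_not_dvd.1 (CfsgLib.PCore.pPrimeCore_coprime (p := 2)).symm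

theorem normalizer_le_normalizer_coreIn (H : Subgroup G) :
    normalizer (H : Set G) ≤ normalizer (coreIn H : Set G) := by
  rw [le_normalizer_iff]
  rintro g hg _ ⟨w, hw, rfl⟩
  have h : (H.normalizerMonoidHom ⟨g, hg⟩).toMonoidHom w ∈ Cfsg.pPrimeCore 2 ↥H := by
    rw [← CfsgLib.PCore.map_pPrimeCore_equiv (H.normalizerMonoidHom ⟨g, hg⟩)]
    exact mem_map_of_mem _ hw
  exact ⟨_, h, rfl⟩

/-- An odd subgroup of `H` normalised by `H` lies in `O(H)`. -/
theorem le_coreIn {H W : Subgroup G} (hW : W ≤ H) (hn : H ≤ normalizer (W : Set G))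
    (hodd : ¬ 2 ∣ Nat.card W) : W ≤ coreIn H := by
  have h : W.subgroupOf H ≤ Cfsg.pPrimeCore 2 ↥H :=
    CfsgLib.PCore.le_pPrimeCore_of_not_dvd ((normal_subgroupOf_iff_le_normalizer hW).2 hn)
      (by rwa [Nat.card_congr (subgroupOfEquivOfLe hW).toEquiv])
  exact fun w hw => ⟨⟨w, hW hw⟩, h hw, rfl⟩

theorem not_two_dvd_of_le {A B : Subgroup G} (h : A ≤ B) (hB : ¬ 2 ∣ Nat.card B) :
    ¬ 2 ∣ Nat.card A := fun h2 => hB (h2.trans (card_dvd_of_le h))

/-- An odd subgroup normal in a subnormal subgroup is trivial when `O(G) = 1`. -/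
theorem eq_bot_of_odd (hO : Cfsg.pPrimeCore 2 G = ⊥) {W J N : Subgroup G} [hN : N.Normal]
    (hJN : J ≤ N) (hNJ : N ≤ normalizer (J : Set G)) (hWJ : W ≤ J)
    (hJW : J ≤ normalizer (W : Set G)) (hodd : ¬ 2 ∣ Nat.card W) : W = ⊥ := by
  have h1 : W ≤ coreIn J := le_coreIn hWJ hJW hodd
  have h2 : coreIn J ≤ coreIn N :=
    le_coreIn ((coreIn_le J).trans hJN) (hNJ.trans (normalizer_le_normalizer_coreIn J))
      (not_two_dvd_coreIn J)
  have h3 : coreIn N ≤ Cfsg.pPrimeCore 2 G := by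
    haveI : (coreIn N).Normal := normalizer_eq_top_iff.1
      (top_le_iff.1 ((le_of_eq (normalizer_eq_top_iff.2 hN).symm).trans
        (normalizer_le_normalizer_coreIn N)))
    exact CfsgLib.PCore.le_pPrimeCore_of_not_dvd inferInstance (not_two_dvd_coreIn N)
  rw [hO] at h3
  exact le_bot_iff.1 (h1.trans (h2.trans h3))

/-- In a proper subgroup the two local closures commute modulo the core. -/
theorem Pair.commutator_le_coreIn (D : Pair G) (ih : Below G) {H : Subgroup G} (hH : H ≠ ⊤) :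
    ⁅localClosure D.S₁ H, localClosure D.S₂ H⁆ ≤ coreIn H := by
  obtain ⟨Q⟩ : Nonempty (Sylow 2 H) := inferInstance
  obtain ⟨k, hk⟩ := exists_conj_le_sylow D.P (Q.isPGroup'.map H.subtype)
  let φ : ↥H →* G := (MulAut.conj k).toMonoidHom.comp H.subtype
  have hφ : ∀ x : ↥H, φ x = k * x * k⁻¹ := fun x => rfl
  let T : Subgroup G → Subgroup ↥H := fun S => (Q : Subgroup ↥H) ⊓ S.comap φ
  have hQP : ∀ x ∈ (Q : Subgroup ↥H), φ x ∈ (D.P : Subgroup G) := fun x hx =>
    hk _ (mem_map_of_mem H.subtype hx)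
  have hsc : ∀ S : Subgroup G, Cfsg.IsStronglyClosed S (D.P : Subgroup G) →
      Cfsg.IsStronglyClosed (T S) (Q : Subgroup ↥H) := by
    intro S hS
    refine ⟨inf_le_left, fun x hx g hg => ⟨hg, ?_⟩⟩
    have h := hS.2 (φ x) hx.2 (φ g)
    rw [← map_inv, ← map_mul, ← map_mul] at h
    exact h (hQP _ hg)
  let E : Pair ↥H :=
    { P := Q, S₁ := T D.S₁, S₂ := T D.S₂,
      comm := fun a ha b hb => by
        apply Subtype.ext
        have h : Commute (φ a) (φ b) := D.comm _ ha.2 _ hb.2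
        have h' := h.map (MulAut.conj k⁻¹).toMonoidHom
        rw [hφ, hφ] at h'
        simpa [mul_assoc] using h'.eq
      disj := eq_bot_iff.2 fun x hx => by
        have h : φ x ∈ D.S₁ ⊓ D.S₂ := ⟨hx.1.2, hx.2.2⟩
        rw [D.disj, mem_bot, hφ, conj_eq_one_iff] at h
        exact Subtype.ext h
      sc₁ := hsc _ D.sc₁, sc₂ := hsc _ D.sc₂ }
  have hlt : Nat.card H < Nat.card G :=
    lt_of_le_of_ne (Nat.le_of_dvd Nat.card_pos (card_subgroup_dvd_card H))
      fun h => hH (H.eq_top_of_card_eq h)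
  have hmain : Commutes E := ih ↥H hlt E
  have hsub : ∀ S : Subgroup G, Cfsg.IsStronglyClosed S (D.P : Subgroup G) →
      localClosure S H ≤ (normalClosure (T S : Set ↥H)).map H.subtype := by
    intro S hS
    rw [localClosure, closure_le]
    rintro x ⟨hxc, hxH⟩
    have hxp : IsPGroup 2 (zpowers (⟨x, hxH⟩ : ↥H)) := by
      obtain ⟨g, hg⟩ := hxc
      obtain ⟨j, hj⟩ := IsPGroup.iff_orderOf.1 D.P.isPGroup' ⟨_, hS.1 hg⟩
      refine IsPGroup.of_card (n := j) ?_
      rw [Nat.card_zpowers, orderOf_mk, ← hj, orderOf_mk, ← MulAut.conj_apply g x,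
        MulEquiv.orderOf_eq]
    obtain ⟨h, hh⟩ := exists_conj_le_sylow Q hxp
    have hq := hh _ (mem_zpowers _)
    have hS' : φ (h * ⟨x, hxH⟩ * h⁻¹) ∈ S := by
      have hP := hQP _ hq
      obtain ⟨g, hg⟩ := hxc
      have := hS.2 _ hg (k * (h : G) * g⁻¹)
      rw [hφ] at hP ⊢
      simp only [coe_mul, coe_inv] at hP ⊢
      have e : k * (h : G) * g⁻¹ * (g * x * g⁻¹) * (k * (h : G) * g⁻¹)⁻¹ =
          k * ((h : G) * x * (h : G)⁻¹) * k⁻¹ := by group
      rw [e] at this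
      exact this hP
    have hn := (normalClosure_normal (s := (T S : Set ↥H))).conj_mem _
      (subset_normalClosure (show h * ⟨x, hxH⟩ * h⁻¹ ∈ (T S : Set ↥H) from ⟨hq, hS'⟩)) h⁻¹
    rw [show h⁻¹ * (h * ⟨x, hxH⟩ * h⁻¹) * h⁻¹⁻¹ = (⟨x, hxH⟩ : ↥H) by group] at hn
    exact ⟨_, hn, rfl⟩
  calc ⁅localClosure D.S₁ H, localClosure D.S₂ H⁆
      ≤ ⁅(normalClosure (T D.S₁ : Set ↥H)).map H.subtype,
          (normalClosure (T D.S₂ : Set ↥H)).map H.subtype⁆ :=
        commutator_mono (hsub _ D.sc₁) (hsub _ D.sc₂)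
    _ = (⁅normalClosure (T D.S₁ : Set ↥H), normalClosure (T D.S₂ : Set ↥H)⁆).map H.subtype :=
        (map_commutator _ _ _).symm
    _ ≤ coreIn H := map_mono hmain

end CfsgLib.ProductFusion
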