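import Cfsg.Agent.Lib.ProductFusion.Main
import Mathlib.GroupTheory.Transfer

/-!
When the strongly closed subgroup has a central complement in a Sylow 2-subgroup and generates
normally, the complement is trivial (transfer). Consequence: a group with trivial core, no proper normal
subgroup of odd index and a Sylow 2-subgroup with two complementary strongly closed factors splits.
-/

set_option autoImplicit false
set_option linter.style.haveILetI false
set_option linter.unusedSectionVars false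

namespace CfsgLib.ProductFusion

open Subgroup
open scoped commutatorElement

universe u

local instance : Fact (Nat.Prime 2) := ⟨Nat.prime_two⟩

variable {G : Type u} [Group G] [Finite G]

theorem central_complement_eq_bot (Q : Sylow 2 G) (S A : Subgroup G)
    (hS : Cfsg.IsStronglyClosed S (Q : Subgroup G)) (hA : A ≤ center G)
    (hQ : S ⊔ A = (Q : Subgroup G)) (hdisj : S ⊓ A = ⊥) (hgen : normalClosure (S : Set G) = ⊤) :
    A = ⊥ := by
  classical
  set T := S.subgroupOf (Q : Subgroup G)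
  have hAQ : A ≤ (Q : Subgroup G) := hQ ▸ le_sup_right
  haveI hTn : T.Normal := ⟨fun x hx g => mem_subgroupOf.2
    (hS.2 x (mem_subgroupOf.1 hx) g ((Q : Subgroup G).mul_mem
      ((Q : Subgroup G).mul_mem g.2 x.2) ((Q : Subgroup G).inv_mem g.2)))⟩
  have hdec : ∀ x : (Q : Subgroup G), ∃ a : (Q : Subgroup G), (a : G) ∈ A ∧
      QuotientGroup.mk' T x = QuotientGroup.mk' T a := by
    intro x
    haveI : A.Normal := ⟨fun y hy g => by
      rw [mem_center_iff.1 (hA hy) g, mul_inv_cancel_right]; exact hy⟩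
    have hx : (x : G) ∈ A ⊔ S := by rw [sup_comm, hQ]; exact x.2
    obtain ⟨a, ha, s, hs, has⟩ := mem_sup_of_normal_left.1 hx
    refine ⟨⟨a, hAQ ha⟩, ha, ?_⟩
    rw [QuotientGroup.mk'_eq_mk']
    refine ⟨⟨s⁻¹, (Q : Subgroup G).inv_mem (hS.1 hs)⟩, mem_subgroupOf.2 (S.inv_mem hs), Subtype.ext ?_⟩
    show (x : G) * s⁻¹ = a
    rw [← has, mul_inv_cancel_right]
  haveI : IsMulCommutative ((Q : Subgroup G) ⧸ T) := ⟨⟨fun x y => by
    obtain ⟨x, rfl⟩ := QuotientGroup.mk'_surjective T x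
    obtain ⟨y, rfl⟩ := QuotientGroup.mk'_surjective T y
    obtain ⟨a, ha, hxa⟩ := hdec x
    obtain ⟨b, _, hyb⟩ := hdec y
    rw [hxa, hyb, ← map_mul, ← map_mul]
    exact congrArg _ (Subtype.ext (mem_center_iff.1 (hA ha) b).symm)⟩⟩
  let φ : (Q : Subgroup G) →* (Q : Subgroup G) ⧸ T := QuotientGroup.mk' T
  letI : CommGroup ((Q : Subgroup G) ⧸ T) :=
    { (inferInstance : Group ((Q : Subgroup G) ⧸ T)) with mul_comm := fun x y => mul_comm' x y }
  have hφ : ∀ (x : G) (h : x ∈ (Q : Subgroup G)), φ ⟨x, h⟩ = 1 ↔ x ∈ S := fun x h => by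
    show QuotientGroup.mk' T ⟨x, h⟩ = 1 ↔ x ∈ S
    rw [QuotientGroup.mk'_apply, QuotientGroup.eq_one_iff, mem_subgroupOf]
  -- the transfer kills `S`
  have hker : ∀ s ∈ S, φ.transfer s = 1 := by
    intro s hs
    haveI : Fintype (Quotient (MulAction.orbitRel (zpowers s) (G ⧸ (Q : Subgroup G)))) :=
      Fintype.ofFinite _
    rw [MonoidHom.transfer_eq_prod_quotient_orbitRel_zpowers_quot]
    refine Finset.prod_eq_one fun q _ => (hφ _ _).2 ?_
    generalize hk : Function.minimalPeriod (s • ·) q.out = k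
    have hmem := QuotientGroup.out_conj_pow_minimalPeriod_mem (Q : Subgroup G) s q.out
    rw [hk] at hmem
    have h := hS.2 (s ^ k) (S.pow_mem hs k) q.out.out⁻¹
    rw [inv_inv] at h
    exact h hmem
  have hall : ∀ g : G, φ.transfer g = 1 := by
    intro g
    have h : normalClosure (S : Set G) ≤ φ.transfer.ker := normalClosure_le_normal hker
    rw [hgen] at h
    exact h (mem_top g)
  rw [eq_bot_iff]
  intro a ha
  have hpow : a ^ (Q : Subgroup G).index ∈ S := by
    have h := hall a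
    rw [MonoidHom.transfer_eq_pow φ a (fun k g₀ _ => by
      rw [mul_assoc, ← mem_center_iff.1 (pow_mem (hA ha) k) g₀, inv_mul_cancel_left])] at h
    exact (hφ _ _).1 h
  have h1 : a ^ (Q : Subgroup G).index = 1 := by
    have h : a ^ (Q : Subgroup G).index ∈ S ⊓ A := ⟨hpow, A.pow_mem ha _⟩
    rwa [hdisj, mem_bot] at h
  obtain ⟨j, hj⟩ := IsPGroup.iff_orderOf.1 Q.isPGroup' ⟨a, hAQ ha⟩
  rw [orderOf_mk] at hj
  have hd := orderOf_dvd_of_pow_eq_one h1
  rw [hj] at hd
  rcases Nat.eq_zero_or_pos j with rfl | hj0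
  · rw [mem_bot, ← orderOf_eq_one_iff, hj, pow_zero]
  · exact absurd ((dvd_pow_self 2 hj0.ne').trans hd) Q.not_dvd_index

/-- The normal closures in the decomposed case. -/
theorem Pair.inf_normalClosure (D : Pair G) (hO : Cfsg.pPrimeCore 2 G = ⊥)
    (hP : D.S₁ ⊔ D.S₂ = (D.P : Subgroup G))
    (hodd : ∀ N : Subgroup G, N.Normal → Odd N.index → N = ⊤) :
    normalClosure (D.S₁ : Set G) ⊔ normalClosure (D.S₂ : Set G) = ⊤ ∧
      ⁅normalClosure (D.S₁ : Set G), normalClosure (D.S₂ : Set G)⁆ = ⊥ ∧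
      (D.P : Subgroup G) ⊓ normalClosure (D.S₁ : Set G) = D.S₁ := by
  set N₁ := normalClosure (D.S₁ : Set G) with hN₁
  set N₂ := normalClosure (D.S₂ : Set G) with hN₂
  have hcomm : ⁅N₁, N₂⁆ = ⊥ := le_bot_iff.1 (hO ▸ commutator_le_pPrimeCore D)
  have htop : N₁ ⊔ N₂ = ⊤ := by
    refine hodd _ (sup_normal _ _) (Nat.odd_iff.2 (Nat.two_dvd_ne_zero.1 ?_))
    exact fun h => D.P.not_dvd_index (h.trans (index_dvd_of_le
      (hP ▸ sup_le_sup (fun x hx => subset_normalClosure hx) (fun x hx => subset_normalClosure hx))))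
  refine ⟨htop, hcomm, ?_⟩
  rw [commutator_eq_bot_iff_le_centralizer] at hcomm
  set A := D.S₂ ⊓ N₁ with hA
  have hS₁N : D.S₁ ≤ N₁ := fun x hx => subset_normalClosure hx
  have hS₂N : D.S₂ ≤ N₂ := fun x hx => subset_normalClosure hx
  have hPN : (D.P : Subgroup G) ⊓ N₁ = D.S₁ ⊔ A := by
    refine le_antisymm ?_ (sup_le (le_inf D.sc₁.1 hS₁N) (le_inf (inf_le_left.trans D.sc₂.1) inf_le_right))
    rintro x ⟨hxP, hxN⟩
    rw [← hP] at hxP
    obtain ⟨a, ha, b, hb, rfl⟩ := CfsgLib.Coprime.exists_mul_of_mem_sup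
      (H := D.S₁) (N := D.S₂) (fun a ha => centralizer_le_normalizer _ (mem_centralizer_iff.2
        fun b hb => (D.comm a ha b hb).symm)) hxP
    exact mul_mem (mem_sup_left ha) (mem_sup_right ⟨hb, by
      have := N₁.mul_mem (N₁.inv_mem (hS₁N ha)) hxN
      rwa [inv_mul_cancel_left] at this⟩)
  have hp : IsPGroup 2 (((D.P : Subgroup G) ⊓ N₁).subgroupOf N₁) :=
    (D.P.isPGroup'.to_le inf_le_left).comap_subtype
  have hidx : ¬ 2 ∣ (((D.P : Subgroup G) ⊓ N₁).subgroupOf N₁).index := by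
    obtain ⟨R⟩ : Nonempty (Sylow 2 N₁) := inferInstance
    obtain ⟨h, hh⟩ := exists_conj_le_sylow D.P (R.isPGroup'.map N₁.subtype)
    have hle : (R : Subgroup N₁).map (((MulAut.conj h).toMonoidHom).comp N₁.subtype) ≤
        (D.P : Subgroup G) ⊓ N₁ := by
      rintro _ ⟨r, hr, rfl⟩
      exact ⟨hh _ (mem_map_of_mem _ hr), (normalClosure_normal (s := (D.S₁ : Set G))).conj_mem _ r.2 h⟩
    have hcard := card_le_of_le hle
    rw [← Nat.card_congr (equivMapOfInjective _ _
      (show Function.Injective (((MulAut.conj h).toMonoidHom).comp N₁.subtype) from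
        (MulAut.conj h).injective.comp N₁.subtype_injective)).toEquiv,
      ← Nat.card_congr (subgroupOfEquivOfLe (show (D.P : Subgroup G) ⊓ N₁ ≤ N₁ from inf_le_right)).toEquiv]
      at hcard
    have heq : Nat.card (((D.P : Subgroup G) ⊓ N₁).subgroupOf N₁) = Nat.card (R : Subgroup N₁) := by
      refine le_antisymm ?_ hcard
      obtain ⟨R', hR'⟩ := hp.exists_le_sylow
      exact (card_le_of_le hR').trans (le_of_eq (by rw [R'.card_eq_multiplicity, R.card_eq_multiplicity]))
    have h1 := card_mul_index (((D.P : Subgroup G) ⊓ N₁).subgroupOf N₁)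
    rw [heq, ← card_mul_index (R : Subgroup N₁)] at h1
    rw [Nat.eq_of_mul_eq_mul_left Nat.card_pos h1]
    exact R.not_dvd_index
  let Q : Sylow 2 N₁ := hp.toSylow hidx
  have hQ : (Q : Subgroup N₁) = ((D.P : Subgroup G) ⊓ N₁).subgroupOf N₁ := rfl
  have hbot : A.subgroupOf N₁ = ⊥ := by
    refine central_complement_eq_bot Q (D.S₁.subgroupOf N₁) (A.subgroupOf N₁) ⟨?_, ?_⟩ ?_ ?_ ?_ ?_
    · rw [hQ]
      exact comap_mono (le_inf D.sc₁.1 hS₁N)
    · intro x hx g hg
      rw [hQ, mem_subgroupOf] at hg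
      exact mem_subgroupOf.2 (D.sc₁.2 x (mem_subgroupOf.1 hx) g hg.1)
    · intro x hx
      refine mem_center_iff.2 fun g => Subtype.ext ?_
      exact (mem_centralizer_iff.1 (hcomm g.2) x (hS₂N (mem_subgroupOf.1 hx).1)).symm
    · rw [hQ, hPN, subgroupOf_sup hS₁N inf_le_right]
    · rw [eq_bot_iff]
      rintro x ⟨h1, h2⟩
      have h : (x : G) ∈ D.S₁ ⊓ D.S₂ := ⟨mem_subgroupOf.1 h1, (mem_subgroupOf.1 h2).1⟩
      rw [D.disj, mem_bot] at h
      exact mem_bot.2 (Subtype.ext h)
    · set K := (normalClosure ((D.S₁.subgroupOf N₁ : Subgroup N₁) : Set N₁)).map N₁.subtype with hK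
      have hKN : K ≤ N₁ := map_subtype_le _
      haveI : K.Normal := by
        refine normalizer_eq_top_iff.1 (top_le_iff.1 ?_)
        rw [← htop]
        refine sup_le ?_ ((le_centralizer_iff.1 hcomm).trans
          ((centralizer_le hKN).trans (centralizer_le_normalizer _)))
        refine le_normalizer_iff.2 ?_
        rintro g hg _ ⟨k, hk, rfl⟩
        exact ⟨_, normalClosure_normal.conj_mem k hk ⟨g, hg⟩, rfl⟩
      have hle : N₁ ≤ K := normalClosure_le_normal fun x hx =>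
        ⟨⟨x, hS₁N hx⟩, subset_normalClosure (mem_subgroupOf.2 hx), rfl⟩
      rw [eq_top_iff]
      intro x _
      obtain ⟨k, hk, hkx⟩ := hle x.2
      exact Subtype.ext hkx ▸ hk
  rw [subgroupOf_eq_bot, disjoint_iff, inf_eq_left.2 (inf_le_right : A ≤ N₁)] at hbot
  rw [hPN, show A = ⊥ from hbot, sup_bot_eq]

end CfsgLib.ProductFusion
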