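import Cfsg.Agent.Lib.ProductFusion.Conj
import Cfsg.Agent.Lib.Involutions.Basic

/-!
Two involutions `a`, `y` conjugate into the two subgroups: `y = r b r⁻¹` with `b` commuting with `a` and
`r` an element of odd order inverted by `a` and `b`, a power of `(a y)²`.
-/

set_option autoImplicit false
set_option linter.style.haveILetI false
set_option linter.unusedSectionVars false

namespace CfsgLib.ProductFusion

open Subgroup CfsgLib.Involutions

universe u

local instance : Fact (Nat.Prime 2) := ⟨Nat.prime_two⟩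

variable {G : Type u} [Group G]

/-- `y = r b r⁻¹` is the decomposition of `y` with respect to `a`. -/
structure Proj (a y b r : G) : Prop where
  odd : ¬ 2 ∣ orderOf r
  comm : Commute a b
  inv_left : a * r * a⁻¹ = r⁻¹
  inv_right : b * r * b⁻¹ = r⁻¹
  eq : r * b * r⁻¹ = y
  mem : r ∈ zpowers ((a * y) ^ 2)

theorem Proj.conj {a y b r : G} (h : Proj a y b r) (g : G) :
    Proj (g * a * g⁻¹) (g * y * g⁻¹) (g * b * g⁻¹) (g * r * g⁻¹) where
  odd := by rw [orderOf_conj_eq]; exact h.odd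
  comm := by simpa using h.comm.map (MulAut.conj g).toMonoidHom
  inv_left := by
    rw [show g * a * g⁻¹ * (g * r * g⁻¹) * (g * a * g⁻¹)⁻¹ = g * (a * r * a⁻¹) * g⁻¹ by group,
      h.inv_left]
    group
  inv_right := by
    rw [show g * b * g⁻¹ * (g * r * g⁻¹) * (g * b * g⁻¹)⁻¹ = g * (b * r * b⁻¹) * g⁻¹ by group,
      h.inv_right]
    group
  eq := by rw [← h.eq]; group
  mem := by
    obtain ⟨i, hi⟩ := mem_zpowers_iff.1 h.mem
    refine mem_zpowers_iff.2 ⟨i, ?_⟩
    rw [← hi, show g * a * g⁻¹ * (g * y * g⁻¹) = MulAut.conj g (a * y) by simp [mul_assoc],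
      ← map_pow, ← map_zpow, MulAut.conj_apply]

theorem Proj.mem_of_mem {a y b r : G} (h : Proj a y b r) {K : Subgroup G} (ha : a ∈ K) (hy : y ∈ K) :
    r ∈ K :=
  (zpowers_le.2 (pow_mem (mul_mem ha hy) 2)) h.mem

variable [Finite G]

theorem Pair.exists_proj (D : Pair G) {a y : G} (ha : a ∈ conjs D.S₁) (ha2 : orderOf a = 2)
    (hy : y ∈ conjs D.S₂) (hy2 : orderOf y = 2) :
    ∃ b r : G, b ∈ conjs D.S₂ ∧ orderOf b = 2 ∧ Proj a y b r := by
  set u := a * y with hu
  obtain ⟨e, m, hm, hn⟩ := Nat.exists_eq_pow_mul_and_not_dvd (orderOf_pos u).ne' 2 (by norm_num)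
  obtain ⟨j₀, hj₀⟩ : Odd m := Nat.not_even_iff_odd.1 (fun h => hm (even_iff_two_dvd.1 h))
  -- `i = (m + 1) / 2`, shifted to be even
  obtain ⟨i, hie, k, hik⟩ : ∃ i : ℤ, Even i ∧ ∃ k : ℤ, 2 * i = 1 + k * m := by
    rcases Int.even_or_odd ((j₀ : ℤ) + 1) with h | h
    · exact ⟨_, h, 1, by push_cast [hj₀]; ring⟩
    · exact ⟨(j₀ : ℤ) + 1 + m, h.add_odd (by exact_mod_cast (⟨j₀, hj₀⟩ : Odd m)), 3,
        by push_cast [hj₀]; ring⟩
  have hinv : ∀ l : ℤ, a * u ^ l * a⁻¹ = u ^ (-l) := fun l => by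
    rw [inverts_zpow (left_inverts_prod ha2 hy2) l, zpow_neg]
  have hy' : y = a * u := by
    rw [hu, ← mul_assoc, CfsgLib.Involutions.mul_self_eq_one ha2, one_mul]
  set b := u ^ i * y * (u ^ i)⁻¹ with hb
  have hbc : b ∈ conjs D.S₂ := conj_mem_conjs hy _
  have hb2 : orderOf b = 2 := by rw [hb, orderOf_conj_eq, hy2]
  have hab : a * b = u ^ (1 - 2 * i) := by
    rw [hb, hy', show a * (u ^ i * (a * u) * (u ^ i)⁻¹) = a * u ^ i * a * (u * (u ^ i)⁻¹) by group]
    nth_rewrite 2 [← inv_eq_self_of_involution ha2]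
    rw [hinv, ← zpow_neg, ← zpow_one_add, ← zpow_add]
    congr 1
    ring
  have hab' : a * b = u ^ (-(k * m)) := by rw [hab]; congr 1; omega
  -- `⟨a, b⟩` is a 2-group
  have hZ : IsPGroup 2 (zpowers (u ^ (m : ℤ))) := by
    refine IsPGroup.of_card (n := e) ?_
    rw [Nat.card_zpowers, zpow_natCast, orderOf_pow_of_dvd (by rintro rfl; simp at hj₀)
      (by rw [hn]; exact dvd_mul_left _ _), hn, Nat.mul_div_cancel _ (by omega)]
  have hX : IsPGroup 2 (zpowers (u ^ (m : ℤ)) ⊔ zpowers a : Subgroup G) := by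
    refine hZ.to_sup_of_normal_left' (IsPGroup.of_card (n := 1) (by rw [Nat.card_zpowers, ha2, pow_one])) ?_
    refine zpowers_le.2 (mem_normalizer_iff_map_conj_eq.2 ?_)
    refine eq_of_le_of_card_ge (map_le_iff_le_comap.2 (zpowers_le.2 ?_))
      (le_of_eq (Nat.card_congr (equivMapOfInjective _ _ (MulAut.conj a).injective).toEquiv))
    rw [mem_comap]
    show a * u ^ (m : ℤ) * a⁻¹ ∈ zpowers (u ^ (m : ℤ))
    rw [hinv, zpow_neg]
    exact inv_mem (mem_zpowers _)
  have haX : a ∈ zpowers (u ^ (m : ℤ)) ⊔ zpowers a := mem_sup_right (mem_zpowers a)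
  have hbX : b ∈ zpowers (u ^ (m : ℤ)) ⊔ zpowers a := by
    have e1 : b = a⁻¹ * u ^ (-(k * m)) := by rw [← hab', inv_mul_cancel_left]
    rw [e1]
    refine mul_mem (inv_mem haX) (mem_sup_left ?_)
    rw [show -(k * (m : ℤ)) = (m : ℤ) * -k by ring, zpow_mul]
    exact zpow_mem (mem_zpowers _) _
  have hc : Commute a b := D.commute_of_mem ha hbc hX haX hbX
  have h2 : u ^ (2 * (k * m)) = 1 := by
    have h : a * b * (a * b) = u ^ (-(k * m)) * u ^ (-(k * m)) := by rw [hab']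
    rw [show a * b * (a * b) = a * a * (b * b) by
      rw [mul_assoc a b, ← mul_assoc b a b, ← hc.eq, mul_assoc a b b, ← mul_assoc a a],
      CfsgLib.Involutions.mul_self_eq_one ha2, CfsgLib.Involutions.mul_self_eq_one hb2, one_mul, ← zpow_add] at h
    rw [show 2 * (k * (m : ℤ)) = -(-(k * m) + -(k * m)) by ring, zpow_neg, ← h, inv_one]
  have hk : Odd k := by
    rcases Int.even_or_odd k with ⟨l, rfl⟩ | h
    · exfalso; have : (2 : ℤ) * i = 1 + 2 * (l * m) := by rw [hik]; ring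
      omega
    · exact h
  refine ⟨b, u ^ (-i), hbc, hb2, ?_, hc, ?_, ?_, ?_, ?_⟩
  · -- `r` has odd order
    have hdiv : orderOf u ∣ 2 * m := by
      have h := orderOf_dvd_iff_zpow_eq_one.2 h2
      have h' : orderOf u ∣ (2 * (k * m)).natAbs := Int.natCast_dvd.1 h
      rw [Int.natAbs_mul, Int.natAbs_mul, Int.natAbs_natCast] at h'
      simp only [Int.reduceAbs] at h'
      have hodd : ¬ 2 ∣ k.natAbs := fun h => by
        obtain ⟨t, ht⟩ := hk
        omega
      rw [hn, ← mul_assoc] at h'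
      have h3 : 2 ^ e ∣ 2 * k.natAbs := Nat.dvd_of_mul_dvd_mul_right (by omega) h'
      have h4 : 2 ^ e ∣ 2 :=
        (Nat.Coprime.pow_left e (Nat.prime_two.coprime_iff_not_dvd.2 hodd)).dvd_of_dvd_mul_right h3
      rw [hn]
      exact mul_dvd_mul_right h4 m
    intro hdvd
    apply hm
    refine hdvd.trans (Int.natCast_dvd_natCast.1 (orderOf_dvd_iff_zpow_eq_one.2 ?_))
    obtain ⟨l, hl⟩ := hie
    rw [← zpow_mul, show -i * (m : ℤ) = ((2 * m : ℕ) : ℤ) * -l by push_cast; rw [hl]; ring, zpow_mul,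
      zpow_natCast, orderOf_dvd_iff_pow_eq_one.1 hdiv, one_zpow]
  · rw [hinv, neg_neg, zpow_neg, inv_inv]
  · have e1 : b = a⁻¹ * u ^ (-(k * m)) := by rw [← hab', inv_mul_cancel_left]
    rw [e1, inv_eq_self_of_involution ha2]
    calc a * u ^ (-(k * m)) * u ^ (-i) * (a * u ^ (-(k * m)))⁻¹
        = a * u ^ (-i) * a⁻¹ := by group
      _ = (u ^ (-i))⁻¹ := by rw [hinv, zpow_neg]
  · rw [hb]; group
  · obtain ⟨l, hl⟩ := hie
    exact mem_zpowers_iff.2 ⟨-l, by rw [← hu, ← zpow_natCast, ← zpow_mul, hl]; congr 1; push_cast; ring⟩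

end CfsgLib.ProductFusion
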