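import Cfsg.Agent.Lib.ProductFusion.Reduce
import Cfsg.Agent.Lib.ProductFusion.Projection
import Cfsg.Agent.Lib.FTCons.GoldschmidtFunctor
import Cfsg.Agent.Lib.Signalizer74.Main
import Cfsg.Agent.Lib.Tech46.CoprimeGen
import Cfsg.Agent.Lib.PF.OddOrder

/-!
Commuting four-groups, one in each family: they are core-separated, and the completion `W` of
Goldschmidt's functor is an odd subgroup normalised by all cores `O(C(s))`, `s` in the first four-group,
which contains the odd elements coming from projections.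
-/

set_option autoImplicit false
set_option linter.style.haveILetI false
set_option linter.unusedSectionVars false

namespace CfsgLib.ProductFusion

open Subgroup CfsgLib.Components
open scoped commutatorElement

universe u

local instance : Fact (Nat.Prime 2) := ⟨Nat.prime_two⟩

variable {G : Type u} [Group G]

/-- A four-group all of whose elements are conjugate into `S`. -/
structure Four (S A : Subgroup G) : Prop where
  elem : Cfsg.IsElementaryAbelian 2 A
  card : Nat.card A = 4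
  sub : ∀ x ∈ A, x ∈ conjs S

/-- A frame: commuting four-groups of the two families. -/
structure Frame (D : Pair G) (A₁ A₂ : Subgroup G) : Prop where
  four₁ : Four D.S₁ A₁
  four₂ : Four D.S₂ A₂
  comm : ∀ x ∈ A₁, ∀ y ∈ A₂, x * y = y * x

theorem Frame.symm {D : Pair G} {A₁ A₂ : Subgroup G} (h : Frame D A₁ A₂) : Frame D.swap A₂ A₁ :=
  ⟨h.four₂, h.four₁, fun x hx y hy => (h.comm y hy x hx).symm⟩

/-- The join of the cores of the centralisers of the involutions of `A`. -/
def coreJoin (A : Subgroup G) : Subgroup G :=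
  ⨆ a : {a : G // a ∈ A ∧ a ≠ 1}, Cfsg.centralizerPPrimeCore 2 (a : G)

/-- Goldschmidt's functor. -/
noncomputable def theta (A₁ A₂ : Subgroup G) (a : G) : Subgroup G :=
  FTCons.GoldFunctor.part A₁ a ⊓ FTCons.GoldFunctor.part A₂ a

/-- Its completion. -/
noncomputable def W (A₁ A₂ : Subgroup G) : Subgroup G :=
  ⨆ a : {a : G // a ∈ A₁ ⊔ A₂ ∧ a ≠ 1}, theta A₁ A₂ (a : G)

theorem theta_comm (A₁ A₂ : Subgroup G) (a : G) : theta A₁ A₂ a = theta A₂ A₁ a := inf_comm _ _

variable [Finite G]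

theorem orderOf_four {S A : Subgroup G} (h : Four S A) {x : G} (hx : x ∈ A) (hx1 : x ≠ 1) :
    orderOf x = 2 := orderOf_eq_prime (h.elem.2 x hx) hx1

theorem isPGroup_four {S A : Subgroup G} (h : Four S A) : IsPGroup 2 A :=
  IsPGroup.of_card (n := 2) (by rw [h.card]; rfl)

theorem exists_gens {S A : Subgroup G} (h : Four S A) :
    ∃ s t : G, s ∈ A ∧ t ∈ A ∧ s ≠ 1 ∧ t ≠ 1 ∧ s ≠ t ∧ A = zpowers s ⊔ zpowers t := by
  haveI : Nontrivial A := Finite.one_lt_card_iff_nontrivial.1 (by rw [h.card]; norm_num)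
  obtain ⟨s, hs⟩ := exists_ne (1 : A)
  have hs' : orderOf (s : G) = 2 := orderOf_four h s.2 fun he => hs (Subtype.ext he)
  obtain ⟨t, ht⟩ : ∃ t : A, (t : G) ∉ zpowers (s : G) := by
    by_contra hno
    push Not at hno
    have := card_le_of_le (show A ≤ zpowers (s : G) from fun x hx => hno ⟨x, hx⟩)
    rw [h.card, Nat.card_zpowers, hs'] at this
    omega
  refine ⟨s, t, s.2, t.2, fun he => hs (Subtype.ext he), fun he => ht (he ▸ one_mem _),
    fun he => ht (he ▸ mem_zpowers _), ?_⟩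
  symm
  refine eq_of_le_of_card_ge (sup_le (zpowers_le.2 s.2) (zpowers_le.2 t.2)) ?_
  have hlt : zpowers (s : G) < zpowers (s : G) ⊔ zpowers (t : G) :=
    lt_of_le_of_ne le_sup_left fun he => ht (he ▸ mem_sup_right (mem_zpowers _))
  have h1 : Nat.card (zpowers (s : G)) ∣ Nat.card (zpowers (s : G) ⊔ zpowers (t : G) : Subgroup G) :=
    card_dvd_of_le le_sup_left
  have h2 : Nat.card (zpowers (s : G) ⊔ zpowers (t : G) : Subgroup G) ∣ 4 :=
    h.card ▸ card_dvd_of_le (sup_le (zpowers_le.2 s.2) (zpowers_le.2 t.2))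
  have h3 : Nat.card (zpowers (s : G) ⊔ zpowers (t : G) : Subgroup G) ≠ 2 := fun he =>
    hlt.ne (eq_of_le_of_card_ge le_sup_left (by rw [he, Nat.card_zpowers, hs']))
  rw [h.card]
  rw [Nat.card_zpowers, hs'] at h1
  have := Nat.le_of_dvd (by norm_num) h2
  interval_cases Nat.card (zpowers (s : G) ⊔ zpowers (t : G) : Subgroup G) <;> omega

variable {D : Pair G} {A₁ A₂ : Subgroup G}

/-- A four-group through an involution, commuting with the second family inside a given 2-group. -/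
theorem exists_four (D : Pair G) (ih : Below G) (hO : Cfsg.pPrimeCore 2 G = ⊥) (hne : ¬ Commutes D)
    {X : Subgroup G} (hX : IsPGroup 2 X) {s : G} (hs : s ∈ conjs D.S₁) (hs2 : orderOf s = 2)
    (hsX : s ∈ X) :
    ∃ A : Subgroup G, Four D.S₁ A ∧ s ∈ A ∧
      ∀ y ∈ X, y ∈ conjs D.S₂ → ∀ a ∈ A, a * y = y * a := by
  obtain ⟨h, hh⟩ := exists_conj_le_sylow D.P hX
  set s' := h * s * h⁻¹ with hs'
  have hs'S : s' ∈ D.S₁ := D.conjs_mem₁ (conj_mem_conjs hs h) (hh s hsX)
  have hs'2 : orderOf s' = 2 := by rw [hs', CfsgLib.Involutions.orderOf_conj_eq, hs2]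
  obtain ⟨t, htS, ht2, hts, hst⟩ :
      ∃ t ∈ D.S₁, orderOf t = 2 ∧ t ≠ s' ∧ s' * t = t * s' := by
    by_contra hno
    push Not at hno
    by_cases honly : ∀ t ∈ D.S₁, orderOf t = 2 → t = s'
    · have h1 := center_sq_eq_one D ih hO hne (mem_center_of_only D hO hs'S hs'2 honly)
        (by rw [← hs'2]; exact pow_orderOf_eq_one _)
      rw [h1, orderOf_one] at hs'2
      omega
    push Not at honly
    obtain ⟨t, ht, ht2, hts⟩ := honly
    -- an involution in the centre of `S₁`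
    have hp : IsPGroup 2 D.S₁ := D.P.isPGroup'.to_le D.sc₁.1
    haveI : Nontrivial D.S₁ := (nontrivial_iff_ne_bot _).2 (S₁_ne_bot D hne)
    haveI := hp.center_nontrivial
    obtain ⟨n, hn⟩ := IsPGroup.iff_card.1 (hp.to_subgroup (center D.S₁))
    have h2 : 2 ∣ Nat.card (center D.S₁) := by
      rcases n with - | n
      · exact absurd hn (by simpa using (Finite.one_lt_card (α := center D.S₁)).ne')
      · rw [hn]; exact dvd_pow_self 2 n.succ_ne_zero
    obtain ⟨z, hz⟩ := exists_prime_orderOf_dvd_card' 2 h2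
    have hzc : ∀ w : G, w ∈ D.S₁ → ((z : D.S₁) : G) * w = w * ((z : D.S₁) : G) := fun w hw =>
      (congrArg Subtype.val (mem_center_iff.1 z.2 ⟨w, hw⟩)).symm
    have hz2 : orderOf ((z : D.S₁) : G) = 2 := by rw [orderOf_coe, orderOf_coe, hz]
    by_cases hzs : ((z : D.S₁) : G) = s'
    · exact hno t ht ht2 hts (hzs ▸ hzc t ht)
    · exact hno _ (z : D.S₁).2 hz2 hzs (hzc s' hs'S).symm
  have hA₀ : zpowers s' ⊔ zpowers t ≤ D.S₁ := sup_le (zpowers_le.2 hs'S) (zpowers_le.2 htS)
  have helem : ∀ w : G, orderOf w = 2 → Cfsg.IsElementaryAbelian 2 (zpowers w) := fun w hw => by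
    refine ⟨inferInstance, fun a ha => ?_⟩
    obtain ⟨i, rfl⟩ := mem_zpowers_iff.1 ha
    rw [← zpow_natCast, ← zpow_mul, mul_comm, zpow_mul, zpow_natCast, ← hw, pow_orderOf_eq_one, one_zpow]
  have hcz : ∀ a ∈ zpowers s', ∀ b ∈ zpowers t, a * b = b * a := by
    intro a ha b hb
    obtain ⟨i, rfl⟩ := mem_zpowers_iff.1 ha
    obtain ⟨j, rfl⟩ := mem_zpowers_iff.1 hb
    exact ((show Commute s' t from hst).zpow_zpow i j).eq
  have hel := CfsgLib.SignalizerConn42.elemAb_sup (helem s' hs'2) (helem t ht2) hcz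
  have hcard : Nat.card (zpowers s' ⊔ zpowers t : Subgroup G) = 4 := by
    have heq : (zpowers s' ⊔ zpowers t : Subgroup G) = closure ({s', t} : Set G) := by
      rw [zpowers_eq_closure, zpowers_eq_closure, ← Subgroup.closure_union, Set.singleton_union]
    have hne1 : s' * t ≠ 1 := fun he => hts (by
      rw [mul_eq_one_iff_eq_inv] at he
      rw [he, CfsgLib.Involutions.inv_eq_self_of_involution ht2])
    have h2 : orderOf (s' * t) = 2 := by
      refine orderOf_eq_prime ?_ hne1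
      rw [pow_two, show s' * t * (s' * t) = s' * s' * (t * t) by
        rw [mul_assoc s' t, ← mul_assoc t s' t, ← hst, mul_assoc s' t t, ← mul_assoc s' s']]
      rw [CfsgLib.Involutions.mul_self_eq_one hs'2, CfsgLib.Involutions.mul_self_eq_one ht2, one_mul]
    rw [heq, CfsgLib.Involutions.card_closure_pair hs'2 ht2, h2]
  refine ⟨(zpowers s' ⊔ zpowers t).map (MulAut.conj h⁻¹).toMonoidHom, ⟨⟨?_, ?_⟩, ?_, ?_⟩, ?_, ?_⟩
  · haveI := hel.1
    exact Subgroup.map_isMulCommutative _ _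
  · rintro _ ⟨a, ha, rfl⟩
    rw [← map_pow, hel.2 a ha, map_one]
  · rw [← hcard]
    exact (Nat.card_congr (equivMapOfInjective _ _ (MulAut.conj h⁻¹).injective).toEquiv).symm
  · rintro _ ⟨a, ha, rfl⟩
    exact ⟨h, by simpa [mul_assoc] using hA₀ ha⟩
  · exact ⟨s', mem_sup_left (mem_zpowers s'), by simp [hs', mul_assoc]⟩
  · rintro y hyX hy _ ⟨a, ha, rfl⟩
    have hy' := D.conjs_mem₂ (conj_mem_conjs hy h) (hh y hyX)
    have hc : Commute a (h * y * h⁻¹) := D.comm a (hA₀ ha) _ hy'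
    have h' := hc.map (MulAut.conj h⁻¹).toMonoidHom
    simpa [mul_assoc] using h'.eq

variable (hF : Frame D A₁ A₂)

include hF in
theorem elemAb_sup_frame : Cfsg.IsElementaryAbelian 2 (A₁ ⊔ A₂ : Subgroup G) :=
  CfsgLib.SignalizerConn42.elemAb_sup hF.four₁.elem hF.four₂.elem hF.comm

include hF in
theorem ne_top_of_involution (ih : Below G) (hO : Cfsg.pPrimeCore 2 G = ⊥) (hne : ¬ Commutes D)
    {a : G} (ha : a ∈ A₁ ⊔ A₂) (ha1 : a ≠ 1) : centralizer ({a} : Set G) ≠ ⊤ := fun h =>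
  ha1 (center_sq_eq_one D ih hO hne (mem_center_iff.2 fun g =>
    mem_centralizer_singleton_iff.1 (h ▸ mem_top g : g ∈ centralizer ({a} : Set G)))
    ((elemAb_sup_frame hF).2 a ha))

include hF in
theorem inf_eq_bot : A₁ ⊓ A₂ = ⊥ :=
  eq_bot_iff.2 fun x hx => mem_bot.2 (D.eq_one_of_mem (hF.four₁.sub x hx.1) (hF.four₂.sub x hx.2))

include hF in
theorem isCoreSeparated (ih : Below G) (hO : Cfsg.pPrimeCore 2 G = ⊥) (hne : ¬ Commutes D) :
    Cfsg.IsCoreSeparated A₁ A₂ := by
  refine ⟨hF.four₁.elem, hF.four₂.elem, hF.four₁.card, hF.four₂.card, fun he => ?_, inf_eq_bot hF,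
    hF.comm, fun a ha ha1 E hE => ?_⟩
  · have h := inf_eq_bot hF
    rw [← he, inf_idem] at h
    have hc := hF.four₁.card
    rw [h, card_bot] at hc
    omega
  let C := centralizer ({a} : Set G)
  have hA := elemAb_sup_frame hF
  have hAC : A₁ ⊔ A₂ ≤ C := FTCons.GoldFunctor.le_centralizer_singleton hA ha
  let X₁ := (localClosure D.S₁ C).subgroupOf C
  let X₂ := (localClosure D.S₂ C).subgroupOf C
  let π := QuotientGroup.mk' (Cfsg.pPrimeCore 2 C)
  have hcomm : ⁅X₁.map π, X₂.map π⁆ = ⊥ := by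
    rw [← map_commutator, Subgroup.map_eq_bot_iff, QuotientGroup.ker_mk',
      ← map_le_map_iff_of_injective C.subtype_injective, map_commutator,
      map_subgroupOf_eq_of_le (localClosure_le _ _), map_subgroupOf_eq_of_le (localClosure_le _ _)]
    exact D.commutator_le_coreIn ih (ne_top_of_involution hF ih hO hne ha ha1)
  haveI : X₁.Normal :=
    (normal_subgroupOf_iff_le_normalizer (localClosure_le _ _)).2 (le_normalizer_localClosure _ _)
  have hsub : (X₁.map π).IsSubnormal :=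
    Subgroup.Normal.isSubnormal ((inferInstance : X₁.Normal).map π (QuotientGroup.mk'_surjective _))
  have key : ∀ (A : Subgroup G) (Z : Subgroup ↥C), A ≤ C → A.subgroupOf C ≤ Z →
      ⁅E.map π, Z.map π⁆ = ⊥ → ⁅E.map C.subtype, A⁆ ≤ Cfsg.centralizerPPrimeCore 2 a := by
    intro A Z hAle hAZ hZ
    rw [← map_commutator, Subgroup.map_eq_bot_iff, QuotientGroup.ker_mk'] at hZ
    calc ⁅E.map C.subtype, A⁆ = ⁅E.map C.subtype, (A.subgroupOf C).map C.subtype⁆ := by
          rw [map_subgroupOf_eq_of_le hAle]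
      _ ≤ ⁅E.map C.subtype, Z.map C.subtype⁆ := commutator_mono le_rfl (map_mono hAZ)
      _ = (⁅E, Z⁆).map C.subtype := (map_commutator _ _ _).symm
      _ ≤ Cfsg.centralizerPPrimeCore 2 a := map_mono hZ
  have hA₁ : A₁.subgroupOf C ≤ X₁ := fun x hx =>
    mem_subgroupOf.2 (mem_localClosure (hF.four₁.sub _ (mem_subgroupOf.1 hx)) x.2)
  have hA₂ : A₂.subgroupOf C ≤ X₂ := fun x hx =>
    mem_subgroupOf.2 (mem_localClosure (hF.four₂.sub _ (mem_subgroupOf.1 hx)) x.2)
  rcases CfsgLib.Components.le_or_commutator_eq_bot hE.2.1 hsub with hle | hbot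
  · refine Or.inr (key A₂ X₂ (le_sup_right.trans hAC) hA₂ (le_bot_iff.1 ?_))
    exact (commutator_mono hle le_rfl).trans (le_of_eq hcomm)
  · exact Or.inl (key A₁ X₁ (le_sup_left.trans hAC) hA₁ hbot)

include hF in
theorem isSolvableSignalizerFunctor (ih : Below G) (hO : Cfsg.pPrimeCore 2 G = ⊥) (hne : ¬ Commutes D) :
    Cfsg.IsSolvableSignalizerFunctor 2 (A₁ ⊔ A₂) (theta A₁ A₂) := by
  refine ⟨FTCons.GoldFunctor.isSignalizerFunctor CfsgLib.PF.oddSolvable A₁ A₂
    (isCoreSeparated hF ih hO hne), fun a ha ha1 => ?_⟩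
  have h := (FTCons.GoldFunctor.isSignalizerFunctor CfsgLib.PF.oddSolvable A₁ A₂
    (isCoreSeparated hF ih hO hne)).2.1 a ha ha1
  exact CfsgLib.PF.oddSolvable _ (Nat.odd_iff.2 (Nat.two_dvd_ne_zero.1 h))

include hF in
theorem completion (ih : Below G) (hO : Cfsg.pPrimeCore 2 G = ⊥) (hne : ¬ Commutes D) :
    ¬ 2 ∣ Nat.card (W A₁ A₂) ∧
      ∀ a ∈ A₁ ⊔ A₂, a ≠ 1 → W A₁ A₂ ⊓ centralizer {a} = theta A₁ A₂ a := by
  have hA := elemAb_sup_frame hF
  have hcard : 2 ^ 3 ≤ Nat.card (A₁ ⊔ A₂ : Subgroup G) := by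
    have hlt : A₁ < A₁ ⊔ A₂ := lt_of_le_of_ne le_sup_left fun he => by
      have h : A₁ ⊓ A₂ = A₂ := inf_eq_right.2 (he ▸ le_sup_right)
      rw [inf_eq_bot hF] at h
      have hc := hF.four₂.card
      rw [← h, card_bot] at hc
      omega
    obtain ⟨t, ht⟩ := card_dvd_of_le (le_of_lt hlt)
    rw [hF.four₁.card] at ht
    have h1 : 1 ≠ t := fun h => hlt.ne (eq_of_le_of_card_ge le_sup_left (by
      rw [ht, ← h, hF.four₁.card]))
    have h0 : 0 < Nat.card (A₁ ⊔ A₂ : Subgroup G) := Nat.card_pos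
    rw [ht] at h0 ⊢
    omega
  obtain ⟨h1, h2⟩ := CfsgLib.Signalizer74.completion hA hcard
    (isSolvableSignalizerFunctor hF ih hO hne)
  exact ⟨h1.2.1, h2⟩

include hF in
theorem theta_le_core {a : G} (ha : a ∈ A₁ ⊔ A₂) : theta A₁ A₂ a ≤ Cfsg.centralizerPPrimeCore 2 a :=
  inf_le_left.trans (FTCons.GoldFunctor.part_le (elemAb_sup_frame hF) le_sup_left ha)

theorem theta_le_W {a : G} (ha : a ∈ A₁ ⊔ A₂) (ha1 : a ≠ 1) : theta A₁ A₂ a ≤ W A₁ A₂ :=
  le_iSup (fun b : {b : G // b ∈ A₁ ⊔ A₂ ∧ b ≠ 1} => theta A₁ A₂ (b : G)) ⟨a, ha, ha1⟩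

theorem core_le_coreJoin {A : Subgroup G} {a : G} (ha : a ∈ A) (ha1 : a ≠ 1) :
    Cfsg.centralizerPPrimeCore 2 a ≤ coreJoin A :=
  le_iSup (fun b : {b : G // b ∈ A ∧ b ≠ 1} => Cfsg.centralizerPPrimeCore 2 (b : G)) ⟨a, ha, ha1⟩

include hF in
theorem le_normalizer_W (ih : Below G) (hO : Cfsg.pPrimeCore 2 G = ⊥) (hne : ¬ Commutes D) :
    A₁ ⊔ A₂ ≤ normalizer (W A₁ A₂ : Set G) := by
  refine le_normalizer_iff.2 fun b hb x hx => ?_
  have h := (isSolvableSignalizerFunctor hF ih hO hne).1.2.2.1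
  have key : (W A₁ A₂).map (MulAut.conj b).toMonoidHom ≤ W A₁ A₂ := by
    rw [W, Subgroup.map_iSup]
    exact iSup_mono fun a => by
      rintro _ ⟨y, hy, rfl⟩
      exact h a a.2.1 a.2.2 b hb y hy
  exact key ⟨x, hx, rfl⟩

include hF in
/-- The completion lies in the join of the cores of the first four-group. -/
theorem W_le_coreJoin (ih : Below G) (hO : Cfsg.pPrimeCore 2 G = ⊥) (hne : ¬ Commutes D) :
    W A₁ A₂ ≤ coreJoin A₁ := by
  obtain ⟨s, t, hs, ht, hs1, ht1, hst, -⟩ := exists_gens hF.four₁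
  obtain ⟨hodd, hmeet⟩ := completion hF ih hO hne
  have hn := le_normalizer_W hF ih hO hne
  refine CfsgLib.Tech46.le_of_centralizers_le (p := 2) s t (hF.four₁.elem.2 s hs) (hF.four₁.elem.2 t ht)
    (congrArg Subtype.val (hF.four₁.elem.1.is_comm.comm ⟨s, hs⟩ ⟨t, ht⟩)) _ _ hodd
    (hn (mem_sup_left hs)) (hn (mem_sup_left ht)) ?_
  intro i j hij
  have hmem : s ^ i * t ^ j ∈ A₁ := mul_mem (pow_mem hs i) (pow_mem ht j)
  have hne1 : s ^ i * t ^ j ≠ 1 := by
    rcases hij with ⟨hi, rfl⟩ | ⟨rfl, rfl⟩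
    · interval_cases i
      · simpa using ht1
      · rw [pow_one, pow_one]
        intro he
        rw [mul_eq_one_iff_eq_inv] at he
        exact hst (by rw [he, CfsgLib.Involutions.inv_eq_self_of_involution (orderOf_four hF.four₁ ht ht1)])
    · simpa using hs1
  rw [hmeet _ (mem_sup_left hmem) hne1]
  exact (theta_le_core hF (mem_sup_left hmem)).trans (core_le_coreJoin hmem hne1)

/-- For `a` in the four-group, its part is the whole core of `C(a)`. -/
theorem core_le_part {A B : Subgroup G} (hA : Cfsg.IsElementaryAbelian 2 A) (hB : B ≤ A) {a : G}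
    (ha : a ∈ B) : Cfsg.centralizerPPrimeCore 2 a ≤ FTCons.GoldFunctor.part B a := by
  have hsolv : Group.IsSolvable B := Group.isSolvable_of_comm fun x y => Subtype.ext
    (FTCons.GoldFunctor.commute_mem hA (hB x.2) (hB y.2))
  conv_lhs => rw [← CfsgLib.Coprime.commutator_sup_centralizer B _
    (hB.trans (FTCons.GoldFunctor.le_normalizer_core hA (hB ha)))
    ((FTCons.GoldFunctor.coprime_core hA le_rfl).coprime_dvd_left (card_dvd_of_le hB)) (Or.inl hsolv)]
  refine sup_le le_sup_left (le_sup_of_le_right (le_inf inf_le_left ?_))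
  refine le_coreIn inf_le_right ?_ (not_two_dvd_of_le inf_le_left (not_two_dvd_coreIn _))
  refine (le_inf ?_ le_normalizer).trans inf_normalizer_le_normalizer_inf
  exact (centralizer_le (Set.singleton_subset_iff.2 ha)).trans
    (le_normalizer.trans (normalizer_le_normalizer_coreIn _))

include hF in
/-- The cores of the first four-group normalise the completion. -/
theorem coreJoin_le_normalizer (ih : Below G) (hO : Cfsg.pPrimeCore 2 G = ⊥) (hne : ¬ Commutes D) :
    coreJoin A₁ ≤ normalizer (W A₁ A₂ : Set G) := by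
  have hA := elemAb_sup_frame hF
  have hfun := isSolvableSignalizerFunctor hF ih hO hne
  refine iSup_le fun ⟨s, hs, hs1⟩ => ?_
  have hsA : s ∈ A₁ ⊔ A₂ := mem_sup_left hs
  set K := Cfsg.centralizerPPrimeCore 2 s with hK
  have hKn := FTCons.GoldFunctor.le_normalizer_core hA hsA
  have hcopr : ∀ B : Subgroup G, B ≤ A₁ ⊔ A₂ → ∀ {a : G} {V : Subgroup G},
      V ≤ Cfsg.centralizerPPrimeCore 2 a → (Nat.card B).Coprime (Nat.card V) := fun B hB a V hV =>
    (FTCons.GoldFunctor.coprime_core hA hV).coprime_dvd_left (card_dvd_of_le hB)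
  have hsolvA : ∀ B : Subgroup G, B ≤ A₁ ⊔ A₂ → Group.IsSolvable B := fun B hB => by
    exact Group.isSolvable_of_comm fun x y => Subtype.ext
      (FTCons.GoldFunctor.commute_mem hA (hB x.2) (hB y.2))
  have hpart : ∀ a ∈ A₁, a ≠ 1 → Cfsg.centralizerPPrimeCore 2 a ≤ FTCons.GoldFunctor.part A₁ a :=
    fun a ha _ => core_le_part hA le_sup_left ha
  rw [← CfsgLib.Coprime.commutator_sup_centralizer A₂ K (le_sup_right.trans hKn)
    (hcopr A₂ le_sup_right le_rfl) (Or.inl (hsolvA A₂ le_sup_right))]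
  refine sup_le (((le_inf ?_ le_sup_left).trans (theta_le_W hsA hs1)).trans le_normalizer) ?_
  · exact (CfsgLib.Coprime.commutator_le_of_normalizes (le_sup_right.trans hKn)).trans (hpart s hs hs1)
  refine le_normalizer_iff.2 fun u hu x hx => ?_
  obtain ⟨huK, huA⟩ := hu
  have hus : u * s = s * u := mem_centralizer_singleton_iff.1 (map_subtype_le _ huK)
  -- `u` maps every `θ t` into `W`
  have key : ∀ t ∈ A₂, t ≠ 1 → (theta A₁ A₂ t).map (MulAut.conj u).toMonoidHom ≤ W A₁ A₂ := by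
    intro t ht ht1
    have htA : t ∈ A₁ ⊔ A₂ := mem_sup_right ht
    set Kt := Cfsg.centralizerPPrimeCore 2 t with hKt
    have hut : u ∈ centralizer ({t} : Set G) :=
      mem_centralizer_singleton_iff.2 (mem_centralizer_iff.1 huA t ht).symm
    have huKt : u ∈ normalizer (Kt : Set G) :=
      normalizer_le_normalizer_coreIn _ (le_normalizer hut)
    set T := theta A₁ A₂ t with hT
    have hTK : T ≤ Kt := theta_le_core hF htA
    have hsT : zpowers s ≤ normalizer (T : Set G) :=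
      zpowers_le.2 ((le_normalizer_iff.2 (fun b hb y hy => hfun.1.2.2.1 t htA ht1 b hb y hy)) hsA)
    have hzA : zpowers s ≤ A₁ ⊔ A₂ := zpowers_le.2 hsA
    rw [← CfsgLib.Coprime.commutator_sup_centralizer (zpowers s) T hsT
      (hcopr _ hzA hTK) (Or.inl (hsolvA _ hzA)), Subgroup.map_sup]
    have hcomK : ⁅Kt, zpowers s⁆ ≤ T := by
      refine (commutator_mono le_rfl (zpowers_le.2 hs)).trans (le_inf le_sup_left ?_)
      exact (CfsgLib.Coprime.commutator_le_of_normalizes (le_sup_left.trans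
        (FTCons.GoldFunctor.le_normalizer_core hA htA))).trans (core_le_part hA le_sup_right ht)
    refine sup_le ?_ ?_
    · rw [map_commutator]
      refine (commutator_mono (le_trans (map_mono hTK) ?_) ?_).trans (hcomK.trans (theta_le_W htA ht1))
      · rintro _ ⟨y, hy, rfl⟩
        exact (mem_normalizer_iff.1 huKt y).1 hy
      · rintro _ ⟨y, hy, rfl⟩
        obtain ⟨i, rfl⟩ := mem_zpowers_iff.1 hy
        show u * s ^ i * u⁻¹ ∈ zpowers s
        rw [((show Commute u s from hus).zpow_right i).eq, mul_inv_cancel_right]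
        exact zpow_mem (mem_zpowers s) i
    rintro _ ⟨y, ⟨hyT, hys⟩, rfl⟩
    show u * y * u⁻¹ ∈ W A₁ A₂
    rw [show u * y * u⁻¹ = ⁅u, y⁆ * y by rw [commutatorElement_def]; group]
    refine mul_mem ?_ (theta_le_W htA ht1 hyT)
    have hys' : y * s = s * y := (mem_centralizer_iff.1 hys s (mem_zpowers s)).symm
    have hyK : y ∈ K := theta_le_core hF hsA
      (hfun.1.2.2.2 t htA ht1 s hsA hs1 ⟨hyT, mem_centralizer_singleton_iff.2 hys'⟩)
    have hcK : ⁅u, y⁆ ∈ K := K.mul_mem (K.mul_mem (K.mul_mem huK hyK) (K.inv_mem huK)) (K.inv_mem hyK)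
    have hcKt : ⁅u, y⁆ ∈ Kt :=
      Kt.mul_mem ((mem_normalizer_iff.1 huKt y).1 (hTK hyT)) (Kt.inv_mem (hTK hyT))
    -- `D := K ⊓ Kt` lies in `θ t`
    set Dst := K ⊓ Kt with hDst
    have hDn : A₁ ≤ normalizer (Dst : Set G) :=
      (le_inf (le_sup_left.trans hKn) (le_sup_left.trans
        (FTCons.GoldFunctor.le_normalizer_core hA htA))).trans inf_normalizer_le_normalizer_inf
    refine theta_le_W htA ht1 ((?_ : Dst ≤ T) ⟨hcK, hcKt⟩)
    refine le_inf ?_ ?_
    · conv_lhs => rw [← CfsgLib.Coprime.commutator_sup_centralizer A₁ Dst hDn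
        (hcopr A₁ le_sup_left inf_le_left) (Or.inl (hsolvA A₁ le_sup_left))]
      refine sup_le ((commutator_mono inf_le_right le_rfl).trans le_sup_left)
        (le_sup_of_le_right (le_inf (inf_le_left.trans inf_le_right) ?_))
      refine (inf_le_inf_right _ inf_le_left).trans (le_coreIn inf_le_right ?_
        (not_two_dvd_of_le inf_le_left (not_two_dvd_coreIn _)))
      refine (le_inf ?_ le_normalizer).trans inf_normalizer_le_normalizer_inf
      exact (centralizer_le (Set.singleton_subset_iff.2 hs)).trans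
        (le_normalizer.trans (normalizer_le_normalizer_coreIn _))
    · exact inf_le_right.trans (core_le_part hA le_sup_right ht)
  -- `W` is generated by the `θ t`, `t ∈ A₂`
  obtain ⟨s₂, t₂, hs₂, ht₂, hs₂1, ht₂1, hst₂, -⟩ := exists_gens hF.four₂
  obtain ⟨hodd, hmeet⟩ := completion hF ih hO hne
  have hn := le_normalizer_W hF ih hO hne
  have hle : W A₁ A₂ ≤ (W A₁ A₂).comap (MulAut.conj u).toMonoidHom := by
    refine CfsgLib.Tech46.le_of_centralizers_le (p := 2) s₂ t₂ (hF.four₂.elem.2 s₂ hs₂)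
      (hF.four₂.elem.2 t₂ ht₂)
      (congrArg Subtype.val (hF.four₂.elem.1.is_comm.comm ⟨s₂, hs₂⟩ ⟨t₂, ht₂⟩)) _ _ hodd
      (hn (mem_sup_right hs₂)) (hn (mem_sup_right ht₂)) ?_
    intro i j hij
    have hmem : s₂ ^ i * t₂ ^ j ∈ A₂ := mul_mem (pow_mem hs₂ i) (pow_mem ht₂ j)
    have hne1 : s₂ ^ i * t₂ ^ j ≠ 1 := by
      rcases hij with ⟨hi, rfl⟩ | ⟨rfl, rfl⟩
      · interval_cases i
        · simpa using ht₂1
        · rw [pow_one, pow_one]
          intro he
          rw [mul_eq_one_iff_eq_inv] at he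
          exact hst₂ (by rw [he, CfsgLib.Involutions.inv_eq_self_of_involution (orderOf_four hF.four₂ ht₂ ht₂1)])
      · simpa using hs₂1
    rw [hmeet _ (mem_sup_right hmem) hne1, ← map_le_iff_le_comap]
    exact key _ hmem hne1
  exact hle hx

include hF in
/-- The odd element of a projection lies in the completion. -/
theorem mem_W_of_proj (ih : Below G) (hO : Cfsg.pPrimeCore 2 G = ⊥) (hne : ¬ Commutes D) {a b y r : G}
    (ha : a ∈ A₁) (ha1 : a ≠ 1) (hb : b ∈ A₂) (hb1 : b ≠ 1) (hp : Proj a y b r) :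
    r ∈ W A₁ A₂ := by
  have hA := elemAb_sup_frame hF
  have ha2 := orderOf_four hF.four₁ ha ha1
  have hb2 := orderOf_four hF.four₂ hb hb1
  have hz : a * b ∈ A₁ ⊔ A₂ := mul_mem (mem_sup_left ha) (mem_sup_right hb)
  have hz1 : a * b ≠ 1 := fun he => by
    rw [mul_eq_one_iff_eq_inv, CfsgLib.Involutions.inv_eq_self_of_involution hb2] at he
    exact ha1 (D.eq_one_of_mem (hF.four₁.sub a ha) (he ▸ hF.four₂.sub b hb))
  have hy : y ∈ conjs D.S₂ := hp.eq ▸ conj_mem_conjs (hF.four₂.sub b hb) r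
  have hy2 : orderOf y = 2 := by rw [← hp.eq, CfsgLib.Involutions.orderOf_conj_eq, hb2]
  set H := centralizer ({a * b} : Set G) with hH
  have haH : a ∈ H := FTCons.GoldFunctor.le_centralizer_singleton hA hz (mem_sup_left ha)
  have hrH : r ∈ H := by
    rw [hH, mem_centralizer_singleton_iff]
    calc r * (a * b) = r * (a * b) * r⁻¹ * r := by group
      _ = (a * b) * r := by
        congr 1
        have e1 : r * a = a * r⁻¹ := by
          rw [show r⁻¹ = a⁻¹ * r * a by
            rw [← hp.inv_left]; simp only [CfsgLib.Involutions.inv_eq_self_of_involution ha2]]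
          group
        have e2 : r⁻¹ * b = b * r := by rw [← hp.inv_right]; group
        calc r * (a * b) * r⁻¹ = r * a * b * r⁻¹ := by group
          _ = a * (r⁻¹ * b) * r⁻¹ := by rw [e1]; group
          _ = a * b := by rw [e2]; group
  have hbH : b ∈ H := FTCons.GoldFunctor.le_centralizer_singleton hA hz (mem_sup_right hb)
  have hyH : y ∈ H := hp.eq ▸ H.mul_mem (H.mul_mem hrH hbH) (H.inv_mem hrH)
  have hsq : (a * y) ^ 2 ∈ Cfsg.centralizerPPrimeCore 2 (a * b) := by
    have h := D.commutator_le_coreIn ih (ne_top_of_involution hF ih hO hne hz hz1)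
      (commutator_mem_commutator (mem_localClosure (hF.four₁.sub a ha) haH)
        (mem_localClosure hy hyH))
    rw [commutatorElement_def, CfsgLib.Involutions.inv_eq_self_of_involution ha2,
      CfsgLib.Involutions.inv_eq_self_of_involution hy2, mul_assoc (a * y) a y, ← pow_two,
      coreIn_centralizer] at h
    exact h
  have hrK : r ∈ Cfsg.centralizerPPrimeCore 2 (a * b) := zpowers_le.2 hsq hp.mem
  have hr2 : r ^ 2 ∈ theta A₁ A₂ (a * b) := by
    constructor
    · refine mem_sup_left ?_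
      have h := commutator_mem_commutator hrK ha
      rwa [commutatorElement_def, show r * a * r⁻¹ * a⁻¹ = r * (a * r⁻¹ * a⁻¹) by group,
        show a * r⁻¹ * a⁻¹ = r by rw [show a * r⁻¹ * a⁻¹ = (a * r * a⁻¹)⁻¹ by group, hp.inv_left, inv_inv],
        ← pow_two] at h
    · refine mem_sup_left ?_
      have h := commutator_mem_commutator hrK hb
      rwa [commutatorElement_def, show r * b * r⁻¹ * b⁻¹ = r * (b * r⁻¹ * b⁻¹) by group,
        show b * r⁻¹ * b⁻¹ = r by rw [show b * r⁻¹ * b⁻¹ = (b * r * b⁻¹)⁻¹ by group, hp.inv_right, inv_inv],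
        ← pow_two] at h
  obtain ⟨m, hm⟩ := Nat.not_even_iff_odd.1 (fun h => hp.odd (even_iff_two_dvd.1 h))
  have e : r = (r ^ 2) ^ (m + 1) := by
    rw [← pow_mul, show 2 * (m + 1) = orderOf r + 1 by omega, pow_succ, pow_orderOf_eq_one, one_mul]
  rw [e]
  exact pow_mem (theta_le_W hz hz1 hr2) _

end CfsgLib.ProductFusion
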