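import Cfsg.Agent.Lib.ProductFusion.Conj
import Cfsg.Agent.Lib.Involutions.BrauerSuzuki
import Cfsg.Agent.Lib.Involutions.Basic
import Cfsg.Agent.Lib.SignalizerConn42
import Cfsg.Agent.Lib.Coprime.HyperplaneGeneration

/-!
First reductions for a smallest group in which the normal closures of two commuting strongly closed
subgroups do not commute: no central involution, `G` is generated by a Sylow 2-subgroup together
with the involutions conjugate into either subgroup, and there are two non-commuting involutions.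
-/

set_option autoImplicit false
set_option linter.style.haveILetI false
set_option linter.unusedSectionVars false

namespace CfsgLib.ProductFusion

open Subgroup CfsgLib.Components
open scoped commutatorElement

universe u

local instance : Fact (Nat.Prime 2) := ⟨Nat.prime_two⟩

variable {G : Type u} [Group G] [Finite G]

theorem not_commutes_swap {D : Pair G} (h : ¬ Commutes D) : ¬ Commutes D.swap := fun h' =>
  h (by rw [Commutes, commutator_comm]; exact h')

/-- An involution of `P` with no other conjugate in `P` is central. -/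
theorem mem_center_of_unique (hO : Cfsg.pPrimeCore 2 G = ⊥) (P : Sylow 2 G) {s : G}
    (hs : orderOf s = 2) (hu : ∀ g : G, g * s * g⁻¹ ∈ (P : Subgroup G) → g * s * g⁻¹ = s) :
    s ∈ center G := by
  have hiso : Cfsg.IsIsolatedInvolution s := by
    refine ⟨hs, fun g hg => ?_⟩
    have hX : IsPGroup 2 (zpowers s ⊔ zpowers (g * s * g⁻¹) : Subgroup G) := by
      have hp : ∀ y : G, orderOf y = 2 → IsPGroup 2 (zpowers y) := fun y hy =>
        IsPGroup.of_card (n := 1) (by rw [Nat.card_zpowers, hy, pow_one])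
      refine (hp s hs).to_sup_of_normal_left' (hp _ (by rw [CfsgLib.Involutions.orderOf_conj_eq, hs]))
        ?_
      refine zpowers_le.2 (centralizer_le_normalizer _ (mem_centralizer_iff.2 fun w hw => ?_))
      obtain ⟨i, rfl⟩ := mem_zpowers_iff.1 hw
      exact (hg.zpow_left i).eq
    obtain ⟨h, hh⟩ := exists_conj_le_sylow P hX
    have h1 := hu h (hh s (mem_sup_left (mem_zpowers s)))
    have h2 := hh _ (mem_sup_right (mem_zpowers (g * s * g⁻¹)))
    rw [show h * (g * s * g⁻¹) * h⁻¹ = h * g * s * (h * g)⁻¹ by group] at h2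
    have h3 := hu (h * g) h2
    calc g * s * g⁻¹ = h⁻¹ * (h * g * s * (h * g)⁻¹) * h := by group
      _ = h⁻¹ * (h * s * h⁻¹) * h := by rw [h3, h1]
      _ = s := by group
  have hz := CfsgLib.Involutions.zstar G s hiso
  refine mem_center_iff.2 fun g => ?_
  have h := hz g
  rw [hO, mem_bot, mul_inv_eq_one, mul_inv_eq_iff_eq_mul] at h
  exact h

/-- An involution in `S₁` that is the only one there is central. -/
theorem mem_center_of_only (D : Pair G) (hO : Cfsg.pPrimeCore 2 G = ⊥) {s : G} (hs : s ∈ D.S₁)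
    (hs2 : orderOf s = 2) (hu : ∀ t ∈ D.S₁, orderOf t = 2 → t = s) : s ∈ center G :=
  mem_center_of_unique hO D.P hs2 fun g hg => hu _ (D.sc₁.2 s hs g hg)
    (by rw [CfsgLib.Involutions.orderOf_conj_eq, hs2])

/-- Modulo a central involution the hypotheses persist, so no central involution exists. -/
theorem center_sq_eq_one (D : Pair G) (ih : Below G) (hO : Cfsg.pPrimeCore 2 G = ⊥)
    (hne : ¬ Commutes D) {c : G} (hc : c ∈ center G) (hc2 : c ^ 2 = 1) : c = 1 := by
  by_contra hc1
  have hcz : ∀ g : G, g * c = c * g := mem_center_iff.1 hc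
  have hcP : c ∈ (D.P : Subgroup G) := by
    have hN : (zpowers c).Normal := ⟨fun y hy g => by
      obtain ⟨i, rfl⟩ := mem_zpowers_iff.1 hy
      rw [((Commute.zpow_right (hcz g) i)).eq, mul_inv_cancel_right]
      exact zpow_mem (mem_zpowers c) i⟩
    obtain ⟨h, hh⟩ := exists_conj_le_sylow D.P (X := zpowers c)
      (IsPGroup.of_card (n := 1) (by rw [Nat.card_zpowers, pow_one, orderOf_eq_prime hc2 hc1]))
    simpa [hcz h] using hh c (mem_zpowers c)
  -- a central involution lying in one of the subgroups, or outside their product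
  obtain ⟨d, hd, hd2, hd1, hdcase⟩ : ∃ d ∈ center G, d ^ 2 = 1 ∧ d ≠ 1 ∧
      (d ∈ D.S₁ ∨ d ∈ D.S₂ ∨ ∀ x ∈ D.S₁, ∀ y ∈ D.S₂, d ≠ x * y) := by
    by_cases h : ∀ x ∈ D.S₁, ∀ y ∈ D.S₂, c ≠ x * y
    · exact ⟨c, hc, hc2, hc1, Or.inr (Or.inr h)⟩
    push Not at h
    obtain ⟨x, hx, y, hy, hxy⟩ := h
    by_cases hx1 : x = 1
    · rw [hx1, one_mul] at hxy
      exact ⟨c, hc, hc2, hc1, Or.inr (Or.inl (hxy ▸ hy))⟩
    have hxyc : Commute x y := D.comm x hx y hy
    have hx2 : x ^ 2 = 1 := by
      have h1 : x ^ 2 * y ^ 2 = 1 := by rw [← hxyc.mul_pow, ← hxy, hc2]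
      have h2 : x ^ 2 ∈ D.S₁ ⊓ D.S₂ :=
        ⟨D.S₁.pow_mem hx 2, by rw [eq_inv_of_mul_eq_one_left h1]; exact D.S₂.inv_mem (D.S₂.pow_mem hy 2)⟩
      rwa [D.disj, mem_bot] at h2
    refine ⟨x, mem_center_of_unique hO D.P (orderOf_eq_prime hx2 hx1) fun g hg => ?_, hx2, hx1,
      Or.inl hx⟩
    have hgx := D.sc₁.2 x hx g hg
    have hgy : g * y * g⁻¹ ∈ (D.P : Subgroup G) := by
      have e : g * y * g⁻¹ = (g * x * g⁻¹)⁻¹ * c := by
        have : c = g * (x * y) * g⁻¹ := by rw [← hxy, hcz g, mul_inv_cancel_right]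
        rw [this]; group
      rw [e]
      exact mul_mem (inv_mem hg) hcP
    have hgy' := D.sc₂.2 y hy g hgy
    have h1 : x * y = g * x * g⁻¹ * (g * y * g⁻¹) := by
      rw [show g * x * g⁻¹ * (g * y * g⁻¹) = g * (x * y) * g⁻¹ by group, ← hxy, hcz g,
        mul_inv_cancel_right]
    have h2 : x⁻¹ * (g * x * g⁻¹) ∈ D.S₁ ⊓ D.S₂ := by
      refine ⟨D.S₁.mul_mem (D.S₁.inv_mem hx) hgx, ?_⟩
      rw [show x⁻¹ * (g * x * g⁻¹) = y * (g * y * g⁻¹)⁻¹ by
        rw [inv_mul_eq_iff_eq_mul, ← mul_assoc, h1, mul_inv_cancel_right]]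
      exact D.S₂.mul_mem hy (D.S₂.inv_mem hgy')
    rw [D.disj, mem_bot, inv_mul_eq_one] at h2
    exact h2.symm
  have hdz : ∀ g : G, g * d = d * g := mem_center_iff.1 hd
  let C : Subgroup G := zpowers d
  haveI hCn : C.Normal := ⟨fun y hy g => by
    obtain ⟨i, rfl⟩ := mem_zpowers_iff.1 hy
    rw [((Commute.zpow_right (hdz g) i)).eq, mul_inv_cancel_right]
    exact zpow_mem (mem_zpowers d) i⟩
  have hCcard : Nat.card C = 2 := by rw [Nat.card_zpowers, orderOf_eq_prime hd2 hd1]
  have hCmem : ∀ y ∈ C, y = 1 ∨ y = d := by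
    intro y hy
    obtain ⟨i, rfl⟩ := mem_zpowers_iff.1 hy
    rcases Int.even_or_odd i with ⟨j, rfl⟩ | ⟨j, rfl⟩
    · left; rw [← two_mul, zpow_mul, zpow_ofNat, hd2, one_zpow]
    · right; rw [zpow_add_one, zpow_mul, zpow_ofNat, hd2, one_zpow, one_mul]
  let π := QuotientGroup.mk' C
  have hsur : Function.Surjective π := QuotientGroup.mk'_surjective C
  have hscq : ∀ S : Subgroup G, Cfsg.IsStronglyClosed S (D.P : Subgroup G) →
      Cfsg.IsStronglyClosed (S.map π) ((D.P.mapSurjective hsur : Sylow 2 (G ⧸ C)) : Subgroup (G ⧸ C)) := by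
    intro S hS
    refine ⟨map_mono hS.1, ?_⟩
    rintro _ ⟨x, hx, rfl⟩ q hq
    obtain ⟨g, rfl⟩ := hsur q
    rw [← map_inv, ← map_mul, ← map_mul] at hq ⊢
    obtain ⟨s, hs, hse⟩ := hq
    obtain ⟨n, hn, hn'⟩ := (QuotientGroup.mk'_eq_mk' C).1 hse
    have hP : g * x * g⁻¹ ∈ (D.P : Subgroup G) := by
      rw [← hn']
      refine mul_mem hs ?_
      rcases hCmem n hn with rfl | rfl
      · exact one_mem _
      · have hdP : n ∈ (D.P : Subgroup G) := by
          obtain ⟨h, hh⟩ := exists_conj_le_sylow D.P (X := C)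
            (IsPGroup.of_card (n := 1) (by rw [hCcard, pow_one]))
          simpa [hdz h] using hh n hn
        exact hdP
    exact mem_map_of_mem π (hS.2 x hx g hP)
  let E : Pair (G ⧸ C) :=
    { P := D.P.mapSurjective hsur, S₁ := D.S₁.map π, S₂ := D.S₂.map π,
      comm := by
        rintro _ ⟨a, ha, rfl⟩ _ ⟨b, hb, rfl⟩
        rw [← map_mul, ← map_mul, D.comm a ha b hb]
      disj := eq_bot_iff.2 fun q hq => by
        obtain ⟨⟨a, ha, rfl⟩, b, hb, hab⟩ := hq
        rw [mem_bot, QuotientGroup.mk'_apply, QuotientGroup.eq_one_iff]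
        obtain ⟨n, hn, hn'⟩ := (QuotientGroup.mk'_eq_mk' C).1 hab
        rcases hCmem n hn with rfl | rfl
        · rw [mul_one] at hn'
          have h : a ∈ D.S₁ ⊓ D.S₂ := ⟨ha, hn' ▸ hb⟩
          rw [D.disj, mem_bot] at h
          exact h ▸ C.one_mem
        · rcases hdcase with hd' | hd' | hd'
          · have h : b ∈ D.S₁ ⊓ D.S₂ := by
              refine ⟨?_, hb⟩
              have := mul_mem ha (inv_mem hd')
              rwa [← hn', mul_inv_cancel_right] at this
            rw [D.disj, mem_bot] at h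
            rw [h, one_mul] at hn'
            exact hn' ▸ hn
          · have h : a ∈ D.S₁ ⊓ D.S₂ := ⟨ha, hn' ▸ mul_mem hb hd'⟩
            rw [D.disj, mem_bot] at h
            exact h ▸ C.one_mem
          · exact (hd' a ha b⁻¹ (inv_mem hb)
              (by rw [← hn', hdz b, mul_inv_cancel_right])).elim
      sc₁ := hscq _ D.sc₁, sc₂ := hscq _ D.sc₂ }
  have hlt : Nat.card (G ⧸ C) < Nat.card G := by
    have h := Subgroup.card_eq_card_quotient_mul_card_subgroup C
    rw [hCcard] at h
    have := (Nat.card_pos : 0 < Nat.card (G ⧸ C))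
    omega
  have hmain : Commutes E := ih _ hlt E
  -- the core of the quotient is trivial
  have hcore : Cfsg.pPrimeCore 2 (G ⧸ C) = ⊥ := by
    have h := CfsgLib.PCore.pPrimeCore_coprime (G := G ⧸ C) (p := 2)
    set R := (Cfsg.pPrimeCore 2 (G ⧸ C)).comap π
    haveI : R.Normal := (inferInstance : (Cfsg.pPrimeCore 2 (G ⧸ C)).Normal).comap _
    have hCR : C ≤ R := fun y hy => by
      rw [mem_comap, QuotientGroup.mk'_apply, (QuotientGroup.eq_one_iff y).2 hy]
      exact one_mem _
    haveI : (C.subgroupOf R).Normal := hCn.subgroupOf R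
    have hidx : (C.subgroupOf R).index = Nat.card (Cfsg.pPrimeCore 2 (G ⧸ C)) := by
      rw [← Subgroup.relIndex]
      have h1 : π.ker.relIndex R = Nat.card (R.map π) := relIndex_ker R π
      rw [QuotientGroup.ker_mk'] at h1
      rw [h1, map_comap_eq_self_of_surjective hsur]
    have hcard : Nat.card (C.subgroupOf R) = 2 := by
      rw [Nat.card_congr (subgroupOfEquivOfLe hCR).toEquiv, hCcard]
    obtain ⟨K, hK⟩ := exists_right_complement'_of_coprime (N := C.subgroupOf R)
      (by rw [hcard, hidx]; exact h.symm)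
    have hKcard : Nat.card K = Nat.card (Cfsg.pPrimeCore 2 (G ⧸ C)) := by
      rw [← hidx]; exact hK.symm.index_eq_card.symm
    have hKodd : ¬ 2 ∣ Nat.card K := by
      rw [hKcard]; exact Nat.prime_two.coprime_iff_not_dvd.1 h.symm
    -- every element of odd order of `R` lies in `K`
    have key : ∀ r : R, ¬ 2 ∣ orderOf r → r ∈ K := by
      intro r hr
      obtain ⟨⟨⟨z, hz⟩, ⟨k, hk⟩⟩, hzk⟩ := hK.2 r
      simp only at hzk
      have hzc : Commute z k := Subtype.ext (by
        obtain ⟨i, hi⟩ := mem_zpowers_iff.1 (show (z : G) ∈ C from hz)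
        rw [Subgroup.coe_mul, Subgroup.coe_mul, ← hi]
        exact (Commute.zpow_left (hdz k).symm i).eq)
      rcases hCmem z hz with h1 | h1
      · have hz1 : z = 1 := Subtype.ext h1
        rw [hz1, one_mul] at hzk
        exact hzk ▸ hk
      · exfalso
        have hko : ¬ 2 ∣ orderOf k := fun h2 => hKodd (h2.trans (orderOf_dvd_natCard K hk))
        have hz' : orderOf z = 2 := by
          rw [← orderOf_coe, h1, orderOf_eq_prime hd2 hd1]
        apply hr
        rw [← hzk, hzc.orderOf_mul_eq_mul_orderOf_of_coprime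
          (by rw [hz']; exact Nat.prime_two.coprime_iff_not_dvd.2 hko), hz']
        exact dvd_mul_right 2 _
    have hKn : (K.map R.subtype).Normal := ⟨by
      rintro _ ⟨k, hk, rfl⟩ g
      have hm : g * (k : G) * g⁻¹ ∈ R := (inferInstance : R.Normal).conj_mem _ k.2 g
      refine ⟨⟨_, hm⟩, key _ ?_, rfl⟩
      rw [orderOf_mk, CfsgLib.Involutions.orderOf_conj_eq, orderOf_coe]
      exact fun h2 => hKodd (h2.trans (orderOf_dvd_natCard K hk))⟩
    have hKbot : K.map R.subtype = ⊥ := le_bot_iff.1 (hO ▸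
      CfsgLib.PCore.le_pPrimeCore_of_not_dvd hKn (by
        rwa [Nat.card_congr (equivMapOfInjective _ _ R.subtype_injective).symm.toEquiv]))
    rw [map_eq_bot_iff_of_injective _ R.subtype_injective] at hKbot
    exact eq_bot_of_card_eq _ (by rw [← hKcard, hKbot, card_bot])
  refine hne ?_
  rw [Commutes, hO, normalClosure_eq, normalClosure_eq, le_bot_iff,
    commutator_eq_bot_iff_le_centralizer, closure_le]
  intro x hx
  rw [SetLike.mem_coe, centralizer_closure, mem_centralizer_iff]
  intro y hy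
  have hxy : π (⁅x, y⁆) = 1 := by
    have h : ⁅π x, π y⁆ ∈ ⁅normalClosure (E.S₁ : Set (G ⧸ C)), normalClosure (E.S₂ : Set (G ⧸ C))⁆ := by
      rw [normalClosure_eq, normalClosure_eq]
      refine commutator_mem_commutator (subset_closure ?_) (subset_closure ?_)
      · obtain ⟨g, hg⟩ := hx
        exact ⟨π g, by rw [← map_inv, ← map_mul, ← map_mul]; exact mem_map_of_mem π hg⟩
      · obtain ⟨g, hg⟩ := hy
        exact ⟨π g, by rw [← map_inv, ← map_mul, ← map_mul]; exact mem_map_of_mem π hg⟩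
    have h' := hmain h
    rw [hcore, mem_bot] at h'
    rwa [map_commutatorElement]
  rw [QuotientGroup.mk'_apply, QuotientGroup.eq_one_iff] at hxy
  -- `⟨x, C⟩` is a 2-group normalised by `y`
  obtain ⟨i, hi⟩ := D.exists_pow₁ hx
  obtain ⟨j, hj⟩ := D.swap.exists_pow₁ hy
  have hA : IsPGroup 2 (zpowers x ⊔ C : Subgroup G) :=
    (IsPGroup.of_card (n := i) (by rw [Nat.card_zpowers, hi])).to_sup_of_normal_right
      (IsPGroup.of_card (n := 1) (by rw [hCcard, pow_one]))
  have hyn : y ∈ normalizer ((zpowers x ⊔ C : Subgroup G) : Set G) := by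
    refine zpowers_le.1 (le_normalizer_iff.2 ?_)
    intro w hw a ha
    obtain ⟨n, rfl⟩ := mem_zpowers_iff.1 hw
    have hsub : zpowers y ≤ normalizer ((zpowers x ⊔ C : Subgroup G) : Set G) := by
      rw [zpowers_le, mem_normalizer_iff_map_conj_eq]
      refine eq_of_le_of_card_ge (map_le_iff_le_comap.2 (sup_le (zpowers_le.2 ?_) fun z hz => ?_))
        (le_of_eq (Nat.card_congr (equivMapOfInjective _ _ (MulAut.conj y).injective).toEquiv))
      · rw [mem_comap]
        show y * x * y⁻¹ ∈ zpowers x ⊔ C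
        rw [show y * x * y⁻¹ = x * (x⁻¹ * (⁅x, y⁆)⁻¹ * x) by rw [commutatorElement_def]; group]
        exact mul_mem (mem_sup_left (mem_zpowers x)) (mem_sup_right (by
          simpa using hCn.conj_mem _ (inv_mem hxy) x⁻¹))
      · rw [mem_comap]
        exact mem_sup_right (hCn.conj_mem z hz y)
    exact (mem_normalizer_iff.1 (hsub hw) a).1 ha
  have hX : IsPGroup 2 (zpowers x ⊔ C ⊔ zpowers y : Subgroup G) :=
    hA.to_sup_of_normal_left' (IsPGroup.of_card (n := j) (by rw [Nat.card_zpowers, hj]))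
      (zpowers_le.2 hyn)
  exact ((D.commute_of_mem hx hy hX (mem_sup_left (mem_sup_left (mem_zpowers x)))
    (mem_sup_right (mem_zpowers y))).eq).symm

/-- The subgroup generated by the involutions conjugate into `S`. -/
def invClosure (S : Subgroup G) : Subgroup G := closure {x | x ∈ conjs S ∧ orderOf x = 2}

instance invClosure_normal (S : Subgroup G) : (invClosure S).Normal := by
  refine ⟨fun x hx g => ?_⟩
  induction hx using closure_induction with
  | mem y hy =>
    exact subset_closure ⟨conj_mem_conjs hy.1 g, by rw [CfsgLib.Involutions.orderOf_conj_eq]; exact hy.2⟩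
  | one => simp
  | mul y z _ _ ihy ihz =>
    have := mul_mem ihy ihz
    rwa [show g * y * g⁻¹ * (g * z * g⁻¹) = g * (y * z) * g⁻¹ by group] at this
  | inv y _ ihy =>
    have := inv_mem ihy
    rwa [show (g * y * g⁻¹)⁻¹ = g * y⁻¹ * g⁻¹ by group] at this

theorem invClosure_le (S : Subgroup G) : invClosure S ≤ normalClosure (S : Set G) := by
  rw [normalClosure_eq]
  exact closure_mono fun x hx => hx.1

/-- A normal subgroup inside a proper subgroup `H ⊇ S₁`, generated there by conjugates of elements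
of `S₂`, is centralised by the normal closure of `S₁`. -/
theorem commutator_eq_bot_of_ne_top (D : Pair G) (ih : Below G) (hO : Cfsg.pPrimeCore 2 G = ⊥)
    {H N : Subgroup G} [hN : N.Normal] (hH : H ≠ ⊤) (hS : D.S₁ ≤ H)
    (hNH : N ≤ localClosure D.S₂ H) : ⁅normalClosure (D.S₁ : Set G), N⁆ = ⊥ := by
  have hS1 : D.S₁ ≤ localClosure D.S₁ H := fun x hx =>
    mem_localClosure (mem_conjs_of_mem hx) (hS hx)
  have h1 : ⁅D.S₁, N⁆ ≤ coreIn H ⊓ N :=
    le_inf ((commutator_mono hS1 hNH).trans (D.commutator_le_coreIn ih hH))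
      (commutator_le_right D.S₁ N)
  have hNn : N ≤ normalizer ((coreIn H ⊓ N : Subgroup G) : Set G) :=
    (le_inf ((hNH.trans (localClosure_le _ _)).trans
      (le_normalizer.trans (normalizer_le_normalizer_coreIn H))) le_normalizer).trans
      inf_normalizer_le_normalizer_inf
  have h2 : coreIn H ⊓ N = ⊥ :=
    eq_bot_of_odd hO (N := N) (J := N) le_rfl le_normalizer inf_le_right hNn
      (not_two_dvd_of_le inf_le_left (not_two_dvd_coreIn H))
  rw [h2, le_bot_iff, commutator_eq_bot_iff_le_centralizer] at h1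
  rw [commutator_eq_bot_iff_le_centralizer]
  exact normalClosure_le_normal h1

/-- Two normal subgroups centralising each other, with `B ⊔ P = ⊤`, force the first to be trivial. -/
theorem eq_bot_of_centralized (D : Pair G) (ih : Below G) (hO : Cfsg.pPrimeCore 2 G = ⊥)
    (hne : ¬ Commutes D) {A B : Subgroup G} [hA : A.Normal] [hB : B.Normal] (hAB : ⁅A, B⁆ = ⊥)
    (hBP : B ⊔ (D.P : Subgroup G) = ⊤) : A = ⊥ := by
  rw [commutator_eq_bot_iff_le_centralizer] at hAB
  have hZ : ∀ x ∈ A ⊓ B, ∃ k : ℕ, orderOf x = 2 ^ k := by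
    intro x hx
    obtain ⟨k, m, hm, hkm⟩ := Nat.exists_eq_pow_mul_and_not_dvd (orderOf_pos x).ne' 2 (by norm_num)
    refine ⟨k, ?_⟩
    have hy : orderOf (x ^ 2 ^ k) = m := by
      rw [orderOf_pow_of_dvd (by positivity) (by rw [hkm]; exact dvd_mul_right _ _), hkm,
        Nat.mul_div_cancel_left _ (by positivity)]
    have hyZ : x ^ 2 ^ k ∈ A ⊓ B := pow_mem hx _
    have h1 : zpowers (x ^ 2 ^ k) = ⊥ := by
      refine eq_bot_of_odd hO (J := A ⊓ B) (N := A ⊓ B) le_rfl le_normalizer
        (zpowers_le.2 hyZ) ?_ (by rw [Nat.card_zpowers, hy]; exact hm)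
      refine le_trans ?_ (centralizer_le_normalizer _)
      intro z hz
      rw [mem_centralizer_iff]
      intro w hw
      exact (mem_centralizer_iff.1 (hAB hz.1) w ((zpowers_le.2 hyZ.2) hw))
    rw [zpowers_eq_bot] at h1
    rw [h1, orderOf_one] at hy
    rw [hkm, ← hy, mul_one]
  have hApg : IsPGroup 2 A := by
    intro a
    obtain ⟨n, hn⟩ := IsPGroup.iff_card.1 D.P.isPGroup'
    have hidx : B.relIndex A ∣ 2 ^ n := by
      have h1 : B.relIndex A ∣ B.index := relIndex_dvd_index_of_normal B A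
      have h2 : B.index ∣ Nat.card (D.P : Subgroup G) := by
        have := relIndex_sup_right (H := (D.P : Subgroup G)) (K := B)
        rw [sup_comm, hBP, relIndex_top_right] at this
        rw [this]
        exact relIndex_dvd_card _ _
      exact hn ▸ h1.trans h2
    haveI : (B.subgroupOf A).Normal := hB.subgroupOf A
    have ha : a ^ 2 ^ n ∈ B.subgroupOf A := by
      obtain ⟨t, ht⟩ := hidx
      rw [ht, pow_mul]
      exact pow_mem (pow_index_mem _ a) t
    obtain ⟨k, hk⟩ := hZ _ ⟨A.pow_mem a.2 _, by simpa [mem_subgroupOf] using ha⟩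
    refine ⟨n + k, Subtype.ext ?_⟩
    rw [Subgroup.coe_pow, Subgroup.coe_one, pow_add, pow_mul, ← hk]
    exact pow_orderOf_eq_one _
  by_contra hA1
  haveI : Nontrivial A := (nontrivial_iff_ne_bot A).2 hA1
  have hAP : A ≤ (D.P : Subgroup G) := by
    intro x hx
    obtain ⟨h, hh⟩ := exists_conj_le_sylow D.P hApg
    have := hh (h⁻¹ * x * h) (by simpa using hA.conj_mem x hx h⁻¹)
    rwa [show h * (h⁻¹ * x * h) * h⁻¹ = x by group] at this
  -- a nontrivial element of `A` fixed by `P`
  obtain ⟨y, hy, hyP, hy1⟩ : ∃ y ∈ A, (∀ g ∈ (D.P : Subgroup G), g * y = y * g) ∧ y ≠ 1 := by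
    haveI : Group.IsNilpotent (D.P : Subgroup G) := D.P.isPGroup'.isNilpotent
    haveI : (A.subgroupOf (D.P : Subgroup G)).Normal := hA.subgroupOf _
    obtain ⟨z, hz, hzc, hz1⟩ := CfsgLib.Coprime39.exists_central_mem
      (A.subgroupOf (D.P : Subgroup G)) (fun h => hA1 (by
        rw [subgroupOf_eq_bot, disjoint_iff, inf_eq_left.2 hAP] at h
        exact h))
    exact ⟨z, hz, fun g hg => congrArg Subtype.val (mem_center_iff.1 hzc ⟨g, hg⟩),
      fun h => hz1 (Subtype.ext h)⟩
  obtain ⟨k, hk⟩ := hApg ⟨y, hy⟩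
  have hk' : y ^ 2 ^ k = 1 := by simpa using congrArg Subtype.val hk
  obtain ⟨j, hj⟩ : ∃ j, orderOf y = 2 ^ (j + 1) := by
    obtain ⟨j, -, hj⟩ := (Nat.dvd_prime_pow Nat.prime_two).1 (orderOf_dvd_of_pow_eq_one hk')
    cases j with
    | zero => exact (hy1 (orderOf_eq_one_iff.1 (by simpa using hj))).elim
    | succ j => exact ⟨j, hj⟩
  have hc : y ^ 2 ^ j ∈ center G := by
    refine pow_mem ?_ _
    have htop : B ⊔ (D.P : Subgroup G) ≤ centralizer ({y} : Set G) := by
      refine sup_le (fun b hb => mem_centralizer_singleton_iff.2 ?_) fun g hg =>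
        mem_centralizer_singleton_iff.2 (hyP g hg)
      exact mem_centralizer_iff.1 (hAB hy) b hb
    rw [hBP, top_le_iff] at htop
    exact mem_center_iff.2 fun g => mem_centralizer_singleton_iff.1
      (htop ▸ mem_top g : g ∈ centralizer ({y} : Set G))
  have h1 := center_sq_eq_one D ih hO hne hc (by rw [← pow_mul, ← pow_succ, ← hj, pow_orderOf_eq_one])
  have h2 := orderOf_dvd_of_pow_eq_one h1
  rw [hj] at h2
  exact Nat.not_succ_le_self j ((Nat.pow_dvd_pow_iff_le_right (by norm_num)).1 h2)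

theorem S₁_ne_bot (D : Pair G) (hne : ¬ Commutes D) : D.S₁ ≠ ⊥ := by
  intro h
  refine hne ?_
  have : normalClosure (D.S₁ : Set G) = ⊥ :=
    le_bot_iff.1 (normalClosure_le_normal (by rw [h]))
  rw [Commutes, this, commutator_bot_left]
  exact bot_le

theorem exists_involution (D : Pair G) (hne : ¬ Commutes D) : ∃ s ∈ D.S₁, orderOf s = 2 := by
  have hp : IsPGroup 2 D.S₁ := D.P.isPGroup'.to_le D.sc₁.1
  obtain ⟨n, hn⟩ := IsPGroup.iff_card.1 hp
  have h2 : 2 ∣ Nat.card D.S₁ := by
    rcases n with - | n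
    · exact (S₁_ne_bot D hne (eq_bot_of_card_eq _ (by simpa using hn))).elim
    · rw [hn]; exact dvd_pow_self 2 n.succ_ne_zero
  obtain ⟨s, hs⟩ := exists_prime_orderOf_dvd_card' 2 h2
  exact ⟨s, s.2, by rw [orderOf_coe, hs]⟩

theorem invClosure_ne_bot (D : Pair G) (hne : ¬ Commutes D) : invClosure D.S₁ ≠ ⊥ := by
  intro h
  obtain ⟨s, hs, hs2⟩ := exists_involution D hne
  have : s ∈ invClosure D.S₁ := subset_closure ⟨mem_conjs_of_mem hs, hs2⟩
  rw [h, mem_bot] at this
  rw [this, orderOf_one] at hs2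
  omega

/-- `G` is generated by a Sylow 2-subgroup and the conjugates of `S₁`. -/
theorem normalClosure_sup_eq_top (D : Pair G) (ih : Below G) (hO : Cfsg.pPrimeCore 2 G = ⊥)
    (hne : ¬ Commutes D) : normalClosure (D.S₁ : Set G) ⊔ (D.P : Subgroup G) = ⊤ := by
  by_contra h
  apply hne
  have hbot := commutator_eq_bot_of_ne_top D.swap ih hO (N := normalClosure (D.S₁ : Set G)) h
    (D.sc₂.1.trans le_sup_right) (by
      rw [normalClosure_eq]
      exact closure_mono fun x hx => ⟨hx, mem_sup_left (subset_closure hx)⟩)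
  rw [Commutes, commutator_comm]
  exact le_of_eq_of_le hbot bot_le

/-- Two commuting families of involutions would finish the proof. -/
theorem exists_not_commute (D : Pair G) (ih : Below G) (hO : Cfsg.pPrimeCore 2 G = ⊥)
    (hne : ¬ Commutes D) : ∃ a ∈ conjs D.S₁, ∃ b ∈ conjs D.S₂,
      orderOf a = 2 ∧ orderOf b = 2 ∧ ¬ Commute a b := by
  by_contra h
  push Not at h
  have hcomm : ⁅invClosure D.S₁, invClosure D.S₂⁆ = ⊥ := by
    rw [commutator_eq_bot_iff_le_centralizer, invClosure, invClosure, centralizer_closure, closure_le]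
    intro a ha
    rw [SetLike.mem_coe, mem_centralizer_iff]
    exact fun b hb => (h a ha.1 b hb.1 ha.2 hb.2).eq.symm
  by_cases h2 : invClosure D.S₂ ⊔ (D.P : Subgroup G) = ⊤
  · exact invClosure_ne_bot D hne (eq_bot_of_centralized D ih hO hne hcomm h2)
  · have hbot := commutator_eq_bot_of_ne_top D ih hO (N := invClosure D.S₂) h2
      (D.sc₁.1.trans le_sup_right)
      (closure_mono fun x hx => ⟨hx.1, mem_sup_left (subset_closure hx)⟩)
    rw [commutator_comm] at hbot
    exact invClosure_ne_bot D.swap (not_commutes_swap hne)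
      (eq_bot_of_centralized D ih hO hne hbot (normalClosure_sup_eq_top D ih hO hne))

theorem invClosure_sup_eq_top (D : Pair G) (ih : Below G) (hO : Cfsg.pPrimeCore 2 G = ⊥)
    (hne : ¬ Commutes D) : invClosure D.S₂ ⊔ (D.P : Subgroup G) = ⊤ := by
  by_contra h2
  obtain ⟨a, ha, b, hb, -, hb2, hab⟩ := exists_not_commute D ih hO hne
  have hbot := commutator_eq_bot_of_ne_top D ih hO (N := invClosure D.S₂) h2
    (D.sc₁.1.trans le_sup_right)
    (closure_mono fun x hx => ⟨hx.1, mem_sup_left (subset_closure hx)⟩)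
  rw [commutator_eq_bot_iff_le_centralizer] at hbot
  apply hab
  have h1 : a ∈ normalClosure (D.S₁ : Set G) := by
    rw [normalClosure_eq]; exact subset_closure ha
  exact (mem_centralizer_iff.1 (hbot h1) b (subset_closure ⟨hb, hb2⟩)).symm

end CfsgLib.ProductFusion
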